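import Cfsg.Agent.Lib.KnownB.F4Mult.MatCode

/-! Kernel checks on the matrices. -/

set_option autoImplicit false
set_option maxRecDepth 100000
set_option Elab.async false

namespace CfsgLib.KnownB.F4Mult

theorem mats_ok : ((List.range 48).all fun r => PackMat.ok (matOf r)) = true := by decide +kernel

theorem nOf_ok : ((List.range 4).all fun i => PackMat.ok (nOf i)) = true := by decide +kernel

theorem idM_spec : ((List.range 52).all fun i => (List.range 52).all fun j =>
    Nat.beq (PackMat.dg (idM.getD i 0) j) (bif Nat.beq i j then 1 else 0)) = true := by decide +kernel

theorem idM_ok : PackMat.ok idM = true := by decide +kernel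

theorem n_check : ((List.range 4).all nOK) = true := by decide +kernel

theorem spread0 : spread done0 conjSteps0 done1 = true := by decide +kernel

theorem spread1 : spread done1 conjSteps1 done2 = true := by decide +kernel

theorem spread2 : spread done2 conjSteps2 done3 = true := by decide +kernel

theorem spread3 : spread done3 conjSteps3 done4 = true := by decide +kernel

theorem spread4 : spread done4 conjSteps4 done5 = true := by decide +kernel

theorem spread5 : spread done5 conjSteps5 done6 = true := by decide +kernel

theorem done_base : baseRels.foldl (fun S p => S ||| Nat.shiftLeft 1 (p.1 * 48 + p.2)) 0 = done0 := by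
  decide +kernel

theorem done_all : ((List.range 48).all fun r => (List.range 48).all fun s =>
    !pairB r s || hasB done6 (r * 48 + s)) = true := by decide +kernel

end CfsgLib.KnownB.F4Mult
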