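import Cfsg.Agent.Lib.KnownB.F4Mult.MatCode

/-! Kernel checks on the matrices. -/

set_option autoImplicit false
set_option maxRecDepth 100000
set_option Elab.async false

namespace CfsgLib.KnownB.F4Mult

theorem dec_check0 : ((List.range 12).all fun j => decOK (0 + j)) = true := by decide +kernel

theorem dec_check12 : ((List.range 12).all fun j => decOK (12 + j)) = true := by decide +kernel

theorem dec_check24 : ((List.range 12).all fun j => decOK (24 + j)) = true := by decide +kernel

theorem dec_check36 : ((List.range 12).all fun j => decOK (36 + j)) = true := by decide +kernel

end CfsgLib.KnownB.F4Mult
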