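import Cfsg.Agent.Lib.KnownB.F4Mult.MatCode

/-! Kernel checks on the matrices. -/

set_option autoImplicit false
set_option maxRecDepth 100000
set_option Elab.async false

namespace CfsgLib.KnownB.F4Mult

theorem conj_check3_0 : ((List.range 12).all fun j => conjOK 3 (0 + j)) = true := by decide +kernel

theorem conj_check3_12 : ((List.range 12).all fun j => conjOK 3 (12 + j)) = true := by decide +kernel

theorem conj_check3_24 : ((List.range 12).all fun j => conjOK 3 (24 + j)) = true := by decide +kernel

theorem conj_check3_36 : ((List.range 12).all fun j => conjOK 3 (36 + j)) = true := by decide +kernel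

end CfsgLib.KnownB.F4Mult
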