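import Cfsg.Agent.Lib.KnownB.F4Mult.Upper
import Cfsg.Agent.Lib.KnownB.F4Mult.MatCheckA
import Cfsg.Agent.Lib.KnownB.F4Mult.MatCheckB
import Cfsg.Agent.Lib.KnownB.F4Mult.MatCheckC
import Cfsg.Agent.Lib.KnownB.F4Mult.MatConj0
import Cfsg.Agent.Lib.KnownB.F4Mult.MatConj1
import Cfsg.Agent.Lib.KnownB.F4Mult.MatConj2
import Cfsg.Agent.Lib.KnownB.F4Mult.MatConj3

/-!
The double cover: the group generated by the 52-dimensional matrices modulo five.
-/

set_option autoImplicit false
set_option maxRecDepth 100000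

namespace CfsgLib.KnownB.F4Mult

open Cfsg.Lie PackMat
open scoped commutatorElement

seal PackMat.toM PackMat.mul matOf rhsM idM nOf Wl negRel decP decQ

theorem prod_mem_of {G : Type*} [Group G] {H : Subgroup G} (f : ℕ → G) {a b : ℕ} (ha : f a ∈ H) (hb : f b ∈ H)
    (l : List ℕ) (hl : ∀ x ∈ l, f x ∈ H) : f a * f b * (l.map f).prod ∈ H :=
  mul_mem (mul_mem ha hb) (list_prod_mem fun y hy => by
    obtain ⟨x, hx, rfl⟩ := List.mem_map.1 hy
    exact hl x hx)

theorem commutator_closure {G : Type*} [Group G] (S : Set G)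
    (h : ∀ u ∈ S, ∃ v ∈ S, ∃ w ∈ S, u = ⁅v⁻¹, w⁻¹⁆) : commutator ↥(Subgroup.closure S) = ⊤ := by
  have hgen : ∀ (g : G) (hg : g ∈ Subgroup.closure S),
      (⟨g, hg⟩ : ↥(Subgroup.closure S)) ∈ commutator ↥(Subgroup.closure S) := by
    intro g hg
    induction hg using Subgroup.closure_induction with
    | mem x hx =>
      obtain ⟨v, hv, w, hw, e⟩ := h x hx
      rw [show (⟨x, Subgroup.subset_closure hx⟩ : ↥(Subgroup.closure S)) =
          ⁅(⟨v, Subgroup.subset_closure hv⟩ : ↥(Subgroup.closure S))⁻¹, (⟨w, Subgroup.subset_closure hw⟩)⁻¹⁆ from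
        Subtype.ext e]
      exact Subgroup.commutator_mem_commutator (Subgroup.mem_top _) (Subgroup.mem_top _)
    | one => exact one_mem (commutator ↥(Subgroup.closure S))
    | mul x y hx hy ihx ihy => exact mul_mem ihx ihy
    | inv x hx ih => exact inv_mem ih
  exact eq_top_iff.2 fun g _ => hgen g g.2

theorem gl_neg_one_ne {n p : ℕ} [NeZero n] (hp : 2 < p) : (-1 : GL (Fin n) (ZMod p)) ≠ 1 := fun e => by
  haveI := Fact.mk hp
  haveI : NeZero p := ⟨by omega⟩
  have h0 : (-1 : Matrix (Fin n) (Fin n) (ZMod p)) = 1 := by simpa using congrArg Units.val e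
  have h : (-1 : Matrix (Fin n) (Fin n) (ZMod p)) 0 0 = (1 : Matrix (Fin n) (Fin n) (ZMod p)) 0 0 := by rw [h0]
  rw [Matrix.neg_apply, Matrix.one_apply_eq] at h
  exact ZMod.neg_one_ne_one h

theorem gl_card_neg {n p : ℕ} [NeZero n] (hp : 2 < p) :
    Nat.card (Subgroup.zpowers (-1 : GL (Fin n) (ZMod p))) = 2 := by
  rw [Nat.card_zpowers]
  exact orderOf_eq_prime (by rw [neg_sq, one_pow]) (gl_neg_one_ne hp)

theorem eq_inv_mul_of_neg {n : ℕ} {R : Type*} [CommRing R] {g h : GL (Fin n) R} (e : g = -h) :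
    (-1 : GL (Fin n) R) = h⁻¹ * g := by
  rw [e, mul_neg, inv_mul_cancel]

/-- the linear group -/
abbrev L52 : Type := GL (Fin 52) (ZMod 5)

/-- plus and minus the identity -/
def sgn52 : Subgroup L52 := Subgroup.zpowers (-1 : L52)

theorem sgn52_le_center : sgn52 ≤ Subgroup.center L52 :=
  Subgroup.zpowers_le.2 (Subgroup.mem_center_iff.2 fun g => by rw [mul_neg_one, neg_one_mul])

instance sgn52_normal : sgn52.Normal := ⟨fun n hn g => by
  rwa [Subgroup.mem_center_iff.1 (sgn52_le_center hn) g, mul_inv_cancel_right]⟩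

/-- the group of matrices up to sign -/
abbrev P52 : Type := L52 ⧸ sgn52

theorem mk_eq_of {a b : L52} (h : (a : Matrix (Fin 52) (Fin 52) (ZMod 5)) = b ∨
    (a : Matrix (Fin 52) (Fin 52) (ZMod 5)) = -(b : Matrix (Fin 52) (Fin 52) (ZMod 5))) :
    (a : P52) = b := by
  rcases h with h | h
  · rw [Units.ext h]
  · rw [show a = b * -1 from Units.ext (by rw [Units.val_mul, Units.val_neg, Units.val_one, h, mul_neg_one]),
      QuotientGroup.mk_mul, (QuotientGroup.eq_one_iff (N := sgn52) _).2 (Subgroup.mem_zpowers _), mul_one]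

theorem all_of {p : ℕ → Bool} {n : ℕ} (h : (List.range n).all p = true) {i : ℕ} (hi : i < n) : p i = true :=
  List.all_eq_true.1 h i (List.mem_range.2 hi)

theorem all_four {p : ℕ → Bool} (h0 : ((List.range 12).all fun j => p (0 + j)) = true)
    (h1 : ((List.range 12).all fun j => p (12 + j)) = true) (h2 : ((List.range 12).all fun j => p (24 + j)) = true)
    (h3 : ((List.range 12).all fun j => p (36 + j)) = true) {r : ℕ} (hr : r < 48) : p r = true := by
  rcases Nat.lt_or_ge r 12 with a | a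
  · simpa using all_of h0 a
  rcases Nat.lt_or_ge r 24 with b | b
  · simpa [Nat.add_sub_cancel' a] using all_of h1 (show r - 12 < 12 by omega)
  rcases Nat.lt_or_ge r 36 with c | c
  · simpa [Nat.add_sub_cancel' b] using all_of h2 (show r - 24 < 12 by omega)
  · simpa [Nat.add_sub_cancel' c] using all_of h3 (show r - 36 < 12 by omega)

theorem mat_ok {r : ℕ} (hr : r < 48) : PackMat.ok (matOf r) = true := all_of mats_ok hr

theorem toM_idM : toM idM = 1 := by
  funext i j
  have h := idM_spec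
  simp only [List.all_eq_true, List.mem_range, Nat.beq_eq] at h
  rw [toM, h i i.2 j j.2, Matrix.one_apply]
  rcases eq_or_ne i j with rfl | e
  · simp
  · have : Nat.beq (i : ℕ) j = false := by
      rw [← Bool.not_eq_true, Nat.beq_eq]; exact fun h => e (Fin.ext h)
    simp [this, e]

theorem exists_unit {r : ℕ} (hr : r < 48) :
    ∃ u : L52, (u : Matrix (Fin 52) (Fin 52) (ZMod 5)) = toM (matOf r) := by
  have h := all_four (p := sqOK) sq_check0 sq_check12 sq_check24 sq_check36 hr
  rcases of_eqPM idM_ok h with e | e <;> rw [toM_mul (mat_ok hr) (mat_ok hr), toM_idM] at e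
  · exact ⟨⟨_, toM (matOf r), e, e⟩, rfl⟩
  · exact ⟨⟨_, -toM (matOf r), by rw [mul_neg, e, neg_neg], by rw [neg_mul, e, neg_neg]⟩, rfl⟩

/-- the matrix of a root as an invertible matrix -/
noncomputable def U (r : ℕ) : L52 := if hr : r < 48 then (exists_unit hr).choose else 1

theorem U_val {r : ℕ} (hr : r < 48) : (U r : Matrix (Fin 52) (Fin 52) (ZMod 5)) = toM (matOf r) := by
  rw [U, dif_pos hr]
  exact (exists_unit hr).choose_spec

attribute [irreducible] U

theorem sq_P {r : ℕ} (hr : r < 48) : (U r : P52) * U r = 1 := by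
  rw [← QuotientGroup.mk_mul, ← QuotientGroup.mk_one]
  refine mk_eq_of ?_
  rw [Units.val_mul, U_val hr, Units.val_one, ← toM_mul (mat_ok hr) (mat_ok hr), ← toM_idM]
  exact of_eqPM idM_ok (all_four (p := sqOK) sq_check0 sq_check12 sq_check24 sq_check36 hr)

theorem foldl_ok : ∀ (l : List ℕ) (A : List ℕ), PackMat.ok A = true →
    PackMat.ok (l.foldl (fun acc x => PackMat.mul acc (matOf x)) A) = true
  | [], _, h => h
  | _ :: l, _, h => foldl_ok l _ (ok_mul h)

theorem foldl_val : ∀ (l : List ℕ) (A : List ℕ) (g : L52), PackMat.ok A = true →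
    (g : Matrix (Fin 52) (Fin 52) (ZMod 5)) = toM A → (∀ x ∈ l, x < 48) →
      toM (l.foldl (fun acc x => PackMat.mul acc (matOf x)) A) =
        ((g * (l.map U).prod : L52) : Matrix (Fin 52) (Fin 52) (ZMod 5))
  | [], A, g, _, hg, _ => by simp [hg]
  | x :: l, A, g, hA, hg, hl => by
    have hx := hl x (List.mem_cons_self ..)
    rw [List.foldl_cons, foldl_val l _ (g * U x) (ok_mul hA)
      (by rw [Units.val_mul, hg, U_val hx, toM_mul hA (mat_ok hx)]) fun y hy => hl y (List.mem_cons_of_mem _ hy),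
      List.map_cons, List.prod_cons, mul_assoc]

theorem rhsM_spec {r s : ℕ} (hp : pairB r s = true) :
    PackMat.ok (rhsM r s) = true ∧
      toM (rhsM r s) = ((U r * U s * ((Wl r s).map U).prod : L52) : Matrix (Fin 52) (Fin 52) (ZMod 5)) := by
  obtain ⟨hr, hs, -, -⟩ := pairB_iff.1 hp
  rw [rhsM]
  refine ⟨foldl_ok _ _ (ok_mul (mat_ok hr)), foldl_val _ _ _ (ok_mul (mat_ok hr)) ?_ (wordChk_spec hp).2.2.1⟩
  rw [Units.val_mul, U_val hr, U_val hs, toM_mul (mat_ok hr) (mat_ok hs)]

theorem base_rel {r s : ℕ} (h : relOK (r, s) = true) :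
    (U s : P52) * U r = U r * U s * ((Wl r s).map fun x => (U x : P52)).prod := by
  simp only [relOK, Bool.and_eq_true] at h
  obtain ⟨hp, he⟩ := h
  obtain ⟨hr, hs, -, -⟩ := pairB_iff.1 hp
  obtain ⟨hok, hval⟩ := rhsM_spec hp
  have e : ((U s * U r : L52) : P52) = ((U r * U s * ((Wl r s).map U).prod : L52) : P52) := by
    refine mk_eq_of ?_
    rw [← hval, Units.val_mul, U_val hs, U_val hr, ← toM_mul (mat_ok hs) (mat_ok hr)]
    exact of_eqPM hok he
  have hm : (((Wl r s).map U).prod : P52) = ((Wl r s).map fun x => (U x : P52)).prod := by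
    rw [← QuotientGroup.mk'_apply, map_list_prod, List.map_map]
    rfl
  rw [QuotientGroup.mk_mul, QuotientGroup.mk_mul, QuotientGroup.mk_mul, hm] at e
  exact e

theorem n_lt {i : ℕ} : simp4 i < 48 ∧ 47 - simp4 i < 48 := by
  refine ⟨?_, by omega⟩
  unfold simp4
  split <;> norm_num

/-- the reflection up to sign -/
noncomputable def nP (i : ℕ) : P52 := (U (simp4 i) : P52) * U (47 - simp4 i) * U (simp4 i)

theorem conj_P {i r : ℕ} (hi : i < 4) (hr : r < 48) : pI i r < 48 ∧ nP i * U r * (nP i)⁻¹ = U (pI i r) := by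
  have h : conjOK i r = true := by
    interval_cases i
    · exact all_four (p := conjOK 0) conj_check0_0 conj_check0_12 conj_check0_24 conj_check0_36 hr
    · exact all_four (p := conjOK 1) conj_check1_0 conj_check1_12 conj_check1_24 conj_check1_36 hr
    · exact all_four (p := conjOK 2) conj_check2_0 conj_check2_12 conj_check2_24 conj_check2_36 hr
    · exact all_four (p := conjOK 3) conj_check3_0 conj_check3_12 conj_check3_24 conj_check3_36 hr
  simp only [conjOK, Bool.and_eq_true, Nat.blt_eq] at h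
  obtain ⟨hp, he⟩ := h
  refine ⟨hp, ?_⟩
  have hn : PackMat.ok (nOf i) = true := all_of nOf_ok hi
  obtain ⟨h1, h2⟩ := n_lt (i := i)
  have hN : ((U (simp4 i) * U (47 - simp4 i) * U (simp4 i) : L52) : Matrix (Fin 52) (Fin 52) (ZMod 5)) =
      toM (nOf i) := by
    rw [Units.val_mul, Units.val_mul, U_val h1, U_val h2, ← toM_mul (mat_ok h1) (mat_ok h2),
      ← toM_mul (ok_mul (mat_ok h1)) (mat_ok h1), eqM_iff (all_of n_check hi)]
  rw [mul_inv_eq_iff_eq_mul, nP, ← QuotientGroup.mk_mul, ← QuotientGroup.mk_mul, ← QuotientGroup.mk_mul,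
    ← QuotientGroup.mk_mul]
  refine mk_eq_of ?_
  rw [Units.val_mul _ (U r), Units.val_mul (U (pI i r)), hN, U_val hr, U_val hp,
    ← toM_mul hn (mat_ok hr), ← toM_mul (mat_ok hp) hn]
  exact of_eqPM (ok_mul (mat_ok hp)) he

/-- what a set of pairs asserts -/
def RelSet (S : ℕ) : Prop := ∀ k, hasB S k = true →
  (U (k % 48) : P52) * U (k / 48) =
    U (k / 48) * U (k % 48) * ((Wl (k / 48) (k % 48)).map fun x => (U x : P52)).prod

theorem relSet_insert {S r s : ℕ} (hs : s < 48) (hS : RelSet S)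
    (h : (U s : P52) * U r = U r * U s * ((Wl r s).map fun x => (U x : P52)).prod) :
    RelSet (S ||| Nat.shiftLeft 1 (r * 48 + s)) := fun k hk => by
  rcases hasB_insert hk with rfl | hk
  · rw [show (r * 48 + s) % 48 = s by omega, show (r * 48 + s) / 48 = r by omega]
    exact h
  · exact hS k hk

theorem spread_spec : ∀ {S : ℕ} {l : List (ℕ × ℕ × ℕ)} {T : ℕ}, spread S l T = true → RelSet S → RelSet T
  | S, [], T, h, hS => by rw [spread, Nat.beq_eq] at h; rwa [← h]
  | S, (i, r, s) :: l, T, h, hS => by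
    simp only [spread, Bool.and_eq_true, Nat.blt_eq, decide_eq_true_eq, List.all_eq_true] at h
    obtain ⟨⟨⟨⟨⟨⟨⟨hk, hi⟩, hr⟩, hs⟩, hp⟩, hW⟩, hlt⟩, hl⟩ := h
    refine spread_spec hl (relSet_insert (pairB_iff.1 hp).2.1 hS ?_)
    have e := hS _ hk
    rw [show (r * 48 + s) % 48 = s by omega, show (r * 48 + s) / 48 = r by omega] at e
    have hc : ∀ x < 48, MulAut.conj (nP i) (U x : P52) = U (pI i x) := fun x hx => (conj_P hi hx).2
    have := congrArg (MulAut.conj (nP i)) e
    simp only [map_mul, map_list_prod, List.map_map, hc r hr, hc s hs] at this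
    rw [this, hW, List.map_map]
    exact congrArg _ (congrArg List.prod (List.map_congr_left fun x hx => hc x (hlt x hx)))

theorem base_fold : ∀ (l : List (ℕ × ℕ)) (S : ℕ), (∀ p ∈ l, relOK p = true) → RelSet S →
    RelSet (l.foldl (fun S p => S ||| Nat.shiftLeft 1 (p.1 * 48 + p.2)) S)
  | [], _, _, hS => hS
  | (r, s) :: l, S, h, hS => by
    have hh := h (r, s) (List.mem_cons_self ..)
    have hp : pairB r s = true := by simp only [relOK, Bool.and_eq_true] at hh; exact hh.1
    exact base_fold l _ (fun p hp => h p (List.mem_cons_of_mem _ hp))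
      (relSet_insert (pairB_iff.1 hp).2.1 hS (base_rel hh))

theorem rel_P {r s : ℕ} (hp : pairB r s = true) :
    (U s : P52) * U r = U r * U s * ((Wl r s).map fun x => (U x : P52)).prod := by
  have h0 : RelSet done0 := by
    rw [← done_base]
    exact base_fold _ 0 (List.all_eq_true.1 base_check) fun k hk => by simp [hasB, Nat.shiftRight_eq'] at hk
  have h6 : RelSet done6 := spread_spec spread5 <| spread_spec spread4 <| spread_spec spread3 <|
    spread_spec spread2 <| spread_spec spread1 <| spread_spec spread0 h0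
  obtain ⟨hr, hs, -, -⟩ := pairB_iff.1 hp
  have h := done_all
  simp only [List.all_eq_true, List.mem_range, Bool.or_eq_true, Bool.not_eq_true'] at h
  rcases h r hr s hs with e | e
  · rw [hp] at e; exact absurd e (by simp)
  · have := h6 _ e
    rwa [show (r * 48 + s) % 48 = s by omega, show (r * 48 + s) / 48 = r by omega] at this

/-- the covering group -/
noncomputable def E : Subgroup L52 := Subgroup.closure {g | ∃ r < 48, g = U r}

theorem U_mem {r : ℕ} (hr : r < 48) : U r ∈ E := Subgroup.subset_closure ⟨r, hr, rfl⟩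

theorem U_dec {r : ℕ} (hr : r < 48) : decP r < 48 ∧ decQ r < 48 ∧
    U r = ⁅(U (decQ r))⁻¹, (U (decP r))⁻¹⁆ := by
  have hd := dec_spec
  simp only [List.all_eq_true, List.mem_range, Bool.and_eq_true, decide_eq_true_eq, Nat.beq_eq] at hd
  obtain ⟨⟨hp, -⟩, -⟩ := hd r hr
  obtain ⟨hP, hQ, -, -⟩ := pairB_iff.1 hp
  refine ⟨hP, hQ, ?_⟩
  have h := eqM_iff (all_four (p := decOK) dec_check0 dec_check12 dec_check24 dec_check36 hr)
  have e : U (decQ r) * U (decP r) = U (decP r) * U (decQ r) * U r := Units.ext (by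
    rw [Units.val_mul, Units.val_mul, Units.val_mul, U_val hQ, U_val hP, U_val hr,
      ← toM_mul (mat_ok hQ) (mat_ok hP), ← toM_mul (mat_ok hP) (mat_ok hQ),
      ← toM_mul (ok_mul (mat_ok hP)) (mat_ok hr), h])
  rw [commutatorElement_def, inv_inv, inv_inv, mul_assoc, e]
  group

theorem neg_one_mem : (-1 : L52) ∈ E := by
  have h := neg_check
  simp only [negOK, Bool.and_eq_true] at h
  obtain ⟨hp, he⟩ := h
  obtain ⟨hr, hs, -, -⟩ := pairB_iff.1 hp
  obtain ⟨hok, hval⟩ := rhsM_spec hp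
  obtain ⟨R, hR⟩ : ∃ R, R = U negRel.1 * U negRel.2 * ((Wl negRel.1 negRel.2).map U).prod := ⟨_, rfl⟩
  have hRm : R ∈ E := hR ▸ prod_mem_of U (U_mem hr) (U_mem hs) _ fun x hx => U_mem ((wordChk_spec hp).2.2.1 x hx)
  have e : U negRel.2 * U negRel.1 = -R := Units.ext (by
    rw [Units.val_mul, U_val hs, U_val hr, ← toM_mul (mat_ok hs) (mat_ok hr), eqM_iff he, toM_neg hok, hval,
      Units.val_neg, hR])
  rw [eq_inv_mul_of_neg e]
  exact mul_mem (inv_mem hRm) (mul_mem (U_mem hs) (U_mem hr))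

theorem commutator_E : commutator ↥E = ⊤ :=
  commutator_closure _ fun u hu => by
    obtain ⟨r, hr, rfl⟩ := hu
    obtain ⟨hP, hQ, e⟩ := U_dec hr
    exact ⟨_, ⟨_, hQ, rfl⟩, _, ⟨_, hP, rfl⟩, e⟩

theorem card_sgn52 : Nat.card sgn52 = 2 := gl_card_neg (by norm_num)

end CfsgLib.KnownB.F4Mult
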