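import Cfsg.Agent.Lib.KnownB.F4Mult.Rel
import Cfsg.Agent.Lib.KnownB.F4Mult.StepData

/-!
Checking derivations of linear equations between the central defects of the lifted relations: two rewritings
of one word to the same word compare the products of the defects used.
-/

set_option autoImplicit false
set_option maxRecDepth 100000

namespace CfsgLib.KnownB.F4Mult

open scoped IsMulCommutative

/-- the codes of the defects: pairs and squares -/
noncomputable def vOK (k : ℕ) : Bool :=
  bif Nat.blt k 2304 then pairB (k / 48) (k % 48) else Nat.blt k 2352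

/-- rewrite the first two letters -/
noncomputable def head2 (t : ℕ) : List ℕ → Option (List ℕ × ℕ)
  | a :: b :: w =>
    bif Nat.beq t 0 then (bif Nat.beq a b && Nat.blt a 48 then some (w, 2304 + a) else none)
    else (bif pairB b a then some (b :: a :: (Wl b a ++ w), b * 48 + a) else none)
  | _ => none

/-- rewrite at a position -/
noncomputable def moveAt : ℕ → ℕ → List ℕ → Option (List ℕ × ℕ)
  | 0, t, w => head2 t w
  | _ + 1, _, [] => none
  | i + 1, t, a :: w => (moveAt i t w).map fun p => (a :: p.1, p.2)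

/-- rewrite along a list of moves -/
noncomputable def replay : List ℕ → List ℕ → Option (List ℕ × List ℕ)
  | [], w => some (w, [])
  | m :: ms, w =>
    match moveAt (m / 2) (m % 2) w with
    | none => none
    | some p => (replay ms p.1).map fun q => (q.1, p.2 :: q.2)

/-- unpack a list of numbers below `B - 1`, offset by one -/
noncomputable def unp (B : ℕ) : ℕ → ℕ → List ℕ
  | 0, _ => []
  | f + 1, n => bif Nat.beq n 0 then [] else (n % B - 1) :: unp B f (n / B)

/-- membership of a code in a bit set -/
noncomputable def hasB (S k : ℕ) : Bool := Nat.beq (Nat.shiftRight S k % 2) 1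

/-- the claimed exponent, offset by eight -/
noncomputable def eo (k : ℕ) : ℕ := Nat.shiftRight expBits (4 * k) % 16

/-- the claimed exponent -/
noncomputable def ex (k : ℕ) : ℤ := (eo k : ℤ) - 8

/-- the sum of the offset exponents -/
noncomputable def sumE : List ℕ → ℕ
  | [] => 0
  | a :: l => eo a + sumE l

/-- the number of occurrences -/
noncomputable def occ (v : ℕ) : List ℕ → ℕ
  | [] => 0
  | a :: l => (bif Nat.beq a v then 1 else 0) + occ v l

/-- remove one occurrence -/
noncomputable def pull (x : ℕ) : List ℕ → Option (List ℕ)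
  | [] => none
  | a :: l => bif Nat.beq a x then some l else (pull x l).map (List.cons a)

/-- remove common entries -/
noncomputable def cancelL : List ℕ → List ℕ → List ℕ × List ℕ
  | [], l₂ => ([], l₂)
  | x :: l₁, l₂ =>
    match pull x l₂ with
    | some l => cancelL l₁ l
    | none => let r := cancelL l₁ l₂; (x :: r.1, r.2)

theorem pull_spec {x : ℕ} : ∀ {l l' : List ℕ}, pull x l = some l' → l.Perm (x :: l')
  | [], l', h => by simp [pull] at h
  | a :: l, l', h => by
    simp only [pull] at h
    cases e : Nat.beq a x <;> simp only [e, cond_false, cond_true] at h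
    · obtain ⟨m, hm, rfl⟩ := Option.map_eq_some_iff.1 h
      exact ((pull_spec hm).cons a).trans (List.Perm.swap x a m)
    · obtain rfl := Option.some.inj h
      obtain rfl := Nat.eq_of_beq_eq_true e
      rfl

theorem cancelL_spec : ∀ l₁ l₂ : List ℕ, ∃ C : List ℕ,
    l₁.Perm (C ++ (cancelL l₁ l₂).1) ∧ l₂.Perm (C ++ (cancelL l₁ l₂).2)
  | [], l₂ => ⟨[], by simp [cancelL]⟩
  | x :: l₁, l₂ => by
    simp only [cancelL]
    split
    · next l h =>
      obtain ⟨C, h1, h2⟩ := cancelL_spec l₁ l
      exact ⟨x :: C, h1.cons x, (pull_spec h).trans (h2.cons x)⟩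
    · obtain ⟨C, h1, h2⟩ := cancelL_spec l₁ l₂
      exact ⟨C, (h1.cons x).trans List.perm_middle.symm, h2⟩

/-- one step: the defect `v` has the claimed value -/
noncomputable def stepOK (S v w m₁ m₂ : ℕ) : Bool :=
  match replay (unp 128 160 m₁) (unp 64 8 w), replay (unp 128 160 m₂) (unp 64 8 w) with
  | some p, some q =>
    let r := cancelL p.2 q.2
    decide (p.1 = q.1) && (r.1.all fun x => Nat.beq x v || hasB S x) &&
      (r.2.all fun x => Nat.beq x v || hasB S x) &&
      (Nat.beq (occ v r.1) (occ v r.2 + 1) || Nat.beq (occ v r.2) (occ v r.1 + 1)) &&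
      Nat.beq (sumE r.1 + 8 * r.2.length) (sumE r.2 + 8 * r.1.length)
  | _, _ => false

/-- the steps, with the final bit set -/
noncomputable def runB : ℕ → List (ℕ × ℕ × ℕ × ℕ) → ℕ → Bool
  | S, [], T => Nat.beq S T
  | S, (v, w, m₁, m₂) :: l, T => stepOK S v w m₁ m₂ && runB (S ||| Nat.shiftLeft 1 v) l T

/-- the closing equation: twice the base value vanishes -/
noncomputable def resOK (S w m₁ m₂ : ℕ) : Bool :=
  match replay (unp 128 160 m₁) (unp 64 8 w), replay (unp 128 160 m₂) (unp 64 8 w) with
  | some p, some q =>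
    let r := cancelL p.2 q.2
    decide (p.1 = q.1) && (r.1.all fun x => hasB S x) && (r.2.all fun x => hasB S x) &&
      Nat.beq (sumE r.1 + 8 * r.2.length) (sumE r.2 + 8 * r.1.length + 2)
  | _, _ => false

theorem hasB_insert {S v k : ℕ} (h : hasB (S ||| Nat.shiftLeft 1 v) k = true) : k = v ∨ hasB S k = true := by
  have key : ∀ n, hasB n k = n.testBit k := fun n => by
    rw [hasB, Bool.eq_iff_iff, Nat.beq_eq, Nat.testBit_eq_decide_div_mod_eq, decide_eq_true_eq,
      Nat.shiftRight_eq', Nat.shiftRight_eq_div_pow]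
  rw [key, Nat.shiftLeft_eq', Nat.testBit_or, Nat.one_shiftLeft, Nat.testBit_two_pow, Bool.or_eq_true,
    decide_eq_true_eq] at h
  rw [key]
  exact h.symm.imp Eq.symm id

variable {X : Type*} [Group X] (a : ℕ → X)

/-- the value of a word -/
def ev (w : List ℕ) : X := (w.map a).prod

/-- the defect of a code -/
noncomputable def dv (k : ℕ) : X :=
  bif Nat.blt k 2304 then (a (k / 48) * a (k % 48) * ev a (Wl (k / 48) (k % 48)))⁻¹ * (a (k % 48) * a (k / 48))
  else a (k - 2304) * a (k - 2304)

/-- the defects are central -/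
def Central : Prop := ∀ k, vOK k = true → dv a k ∈ Subgroup.center X

variable {a}

theorem comm_of {k : ℕ} (hc : Central a) (hk : vOK k = true) (x : X) : dv a k * x = x * dv a k :=
  ((Subgroup.mem_center_iff.1 (hc k hk)) x).symm

theorem head2_spec {t : ℕ} : ∀ {w : List ℕ} {p : List ℕ × ℕ}, head2 t w = some p → Central a →
    ev a w = ev a p.1 * dv a p.2 ∧ vOK p.2 = true
  | [], p, h, _ => by simp [head2] at h
  | [_], p, h, _ => by simp [head2] at h
  | x :: y :: w, p, h, hc => by
    simp only [head2] at h
    cases ht : Nat.beq t 0 <;> simp only [ht, cond_false, cond_true] at h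
    · cases hp : pairB y x <;> simp only [hp, cond_false, cond_true] at h
      · exact absurd h (by simp)
      · obtain ⟨hy, hx, -, -⟩ := pairB_iff.1 hp
        obtain rfl := Option.some.inj h
        have hk : Nat.blt (y * 48 + x) 2304 = true := by rw [Nat.blt_eq]; omega
        have e1 : (y * 48 + x) / 48 = y := by omega
        have e2 : (y * 48 + x) % 48 = x := by omega
        have hv : vOK (y * 48 + x) = true := by simp [vOK, hk, e1, e2, hp]
        refine ⟨?_, hv⟩
        have hd : dv a (y * 48 + x) = (a y * a x * ev a (Wl y x))⁻¹ * (a x * a y) := by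
          simp [dv, hk, e1, e2]
        simp only [ev, List.map_cons, List.map_append, List.prod_cons, List.prod_append]
        calc a x * (a y * (List.map a w).prod)
            = (a y * a x * ev a (Wl y x)) * dv a (y * 48 + x) * (List.map a w).prod := by rw [hd]; group
          _ = _ := by
            rw [mul_assoc _ (dv a (y * 48 + x)), comm_of hc hv]
            simp only [ev, mul_assoc]
    · cases hp : (Nat.beq x y && Nat.blt x 48) <;> simp only [hp, cond_false, cond_true] at h
      · exact absurd h (by simp)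
      · simp only [Bool.and_eq_true, Nat.beq_eq, Nat.blt_eq] at hp
        obtain rfl := Option.some.inj h
        obtain ⟨rfl, hx⟩ := hp
        have hk : Nat.blt (2304 + x) 2304 = false := by
          rw [← Bool.not_eq_true, Nat.blt_eq]; omega
        have hv : vOK (2304 + x) = true := by
          simp only [vOK, hk, cond_false, Nat.blt_eq]; omega
        refine ⟨?_, hv⟩
        simp only [ev, List.map_cons, List.prod_cons]
        rw [← comm_of hc hv, ← mul_assoc]
        congr 1
        simp [dv, hk]

theorem moveAt_spec : ∀ {i t : ℕ} {w : List ℕ} {p : List ℕ × ℕ}, moveAt i t w = some p → Central a →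
    ev a w = ev a p.1 * dv a p.2 ∧ vOK p.2 = true
  | 0, _, w, p, h, hc => head2_spec (by simpa [moveAt] using h) hc
  | _ + 1, _, [], p, h, _ => by simp [moveAt] at h
  | i + 1, t, x :: w, p, h, hc => by
    simp only [moveAt, Option.map_eq_some_iff] at h
    obtain ⟨q, hq, rfl⟩ := h
    obtain ⟨h1, h2⟩ := moveAt_spec hq hc
    refine ⟨?_, h2⟩
    simp only [ev, List.map_cons, List.prod_cons] at h1 ⊢
    rw [h1, mul_assoc]

theorem replay_spec : ∀ {ms w : List ℕ} {p : List ℕ × List ℕ}, replay ms w = some p → Central a →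
    ev a w = ev a p.1 * (p.2.map (dv a)).prod ∧ ∀ x ∈ p.2, vOK x = true
  | [], w, p, h, _ => by
    obtain rfl := Option.some.inj h
    simp
  | m :: ms, w, p, h, hc => by
    simp only [replay] at h
    split at h
    · exact absurd h (by simp)
    · next r hr =>
      obtain ⟨q, hq, rfl⟩ := Option.map_eq_some_iff.1 h
      obtain ⟨h1, h2⟩ := moveAt_spec hr hc
      obtain ⟨h3, h4⟩ := replay_spec hq hc
      refine ⟨?_, List.forall_mem_cons.2 ⟨h2, h4⟩⟩
      rw [h1, h3, List.map_cons, List.prod_cons, mul_assoc, ← comm_of hc h2]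

theorem sumE_eq : ∀ l : List ℕ, (l.map ex).sum = (sumE l : ℤ) - 8 * (l.length : ℤ)
  | [] => rfl
  | x :: l => by
    rw [List.map_cons, List.sum_cons, sumE_eq l, sumE, List.length_cons]
    push_cast [ex]
    ring

theorem occ_prod {C : Type*} [CommMonoid C] (D : ℕ → C) (v : ℕ) :
    ∀ l : List ℕ, (∀ x ∈ l, x = v ∨ D x = 1) → (l.map D).prod = D v ^ occ v l
  | [], _ => by simp [occ]
  | x :: l, h => by
    rw [List.map_cons, List.prod_cons, occ_prod D v l fun y hy => h y (List.mem_cons_of_mem _ hy), occ]
    cases e : Nat.beq x v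
    · have hne : x ≠ v := fun e' => by simp [e', Nat.beq_eq] at e
      rcases h x (List.mem_cons_self ..) with h' | h'
      · exact absurd h' hne
      · simp [h']
    · rw [Nat.beq_eq] at e
      subst e
      simp [pow_add]

theorem shuffle {C : Type*} [CommGroup C] (A B P D : C) : A * B⁻¹ * P * (B * D) = A * (P * D) := by
  rw [mul_mul_mul_comm, inv_mul_cancel_right]

variable (a) in
/-- the defect divided by its claimed value, in the centre -/
noncomputable def dd (z : Subgroup.center X) (k : ℕ) : Subgroup.center X := by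
  classical
  exact if h : dv a k ∈ Subgroup.center X then ⟨dv a k, h⟩ * (z ^ ex k)⁻¹ else 1

theorem prod_dd (z : Subgroup.center X) (hc : Central a) :
    ∀ l : List ℕ, (∀ x ∈ l, vOK x = true) →
      (((l.map (dd a z)).prod * z ^ (l.map ex).sum : Subgroup.center X) : X) = (l.map (dv a)).prod
  | [], _ => by simp
  | x :: l, h => by
    have hx := hc x (h x (List.mem_cons_self ..))
    rw [List.map_cons, List.map_cons, List.map_cons, List.prod_cons, List.prod_cons, List.sum_cons,
      ← prod_dd z hc l fun y hy => h y (List.mem_cons_of_mem _ hy), zpow_add,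
      show dd a z x = ⟨dv a x, hx⟩ * (z ^ ex x)⁻¹ from by simp [dd, hx]]
    rw [show ∀ P D : Subgroup.center X,
        ((⟨dv a x, hx⟩ * (z ^ ex x)⁻¹ * P * (z ^ ex x * D) : Subgroup.center X) : X) =
          dv a x * ((P * D : Subgroup.center X) : X) from fun P D => by
        rw [shuffle]; rfl]

/-- what a bit set asserts -/
def Holds (a : ℕ → X) (z : Subgroup.center X) (S : ℕ) : Prop := ∀ k, hasB S k = true → dd a z k = 1

theorem eq_of_replay (z : Subgroup.center X) (hc : Central a) {w l₁ l₂ u : List ℕ} {m₁ m₂ : List ℕ}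
    (h1 : replay m₁ w = some (u, l₁)) (h2 : replay m₂ w = some (u, l₂)) :
    (l₁.map (dd a z)).prod * z ^ (l₁.map ex).sum = (l₂.map (dd a z)).prod * z ^ (l₂.map ex).sum := by
  obtain ⟨e1, v1⟩ := replay_spec h1 hc
  obtain ⟨e2, v2⟩ := replay_spec h2 hc
  refine Subtype.ext ?_
  rw [prod_dd z hc l₁ v1, prod_dd z hc l₂ v2]
  exact mul_left_cancel (e1.symm.trans e2)

theorem eq_of_cancel (z : Subgroup.center X) {l₁ l₂ : List ℕ}
    (h : (l₁.map (dd a z)).prod * z ^ (l₁.map ex).sum = (l₂.map (dd a z)).prod * z ^ (l₂.map ex).sum) :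
    ((cancelL l₁ l₂).1.map (dd a z)).prod * z ^ ((cancelL l₁ l₂).1.map ex).sum =
      ((cancelL l₁ l₂).2.map (dd a z)).prod * z ^ ((cancelL l₁ l₂).2.map ex).sum := by
  obtain ⟨C, h1, h2⟩ := cancelL_spec l₁ l₂
  have e : ∀ {l : List ℕ} {r : List ℕ}, l.Perm (C ++ r) → (l.map (dd a z)).prod * z ^ (l.map ex).sum =
      ((C.map (dd a z)).prod * z ^ (C.map ex).sum) * ((r.map (dd a z)).prod * z ^ (r.map ex).sum) := by
    intro l r hp
    rw [(hp.map (dd a z)).prod_eq, (hp.map ex).sum_eq, List.map_append, List.map_append, List.prod_append,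
      List.sum_append, zpow_add, mul_mul_mul_comm]
  rw [e h1, e h2] at h
  exact mul_left_cancel h

theorem step_spec (z : Subgroup.center X) (hc : Central a) {S v w m₁ m₂ : ℕ}
    (h : stepOK S v w m₁ m₂ = true) (hS : Holds a z S) : dd a z v = 1 := by
  unfold stepOK at h
  split at h
  · next p q hp hq =>
    simp only [Bool.and_eq_true, decide_eq_true_eq, List.all_eq_true, Bool.or_eq_true, Nat.beq_eq] at h
    obtain ⟨⟨⟨⟨huv, ha⟩, hb⟩, hcnt⟩, hsum⟩ := h
    have he := eq_of_cancel z (eq_of_replay z hc (u := p.1) (l₁ := p.2) (l₂ := q.2) hp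
      (by rw [huv]; exact hq))
    have hs : ((cancelL p.2 q.2).1.map ex).sum = ((cancelL p.2 q.2).2.map ex).sum := by rw [sumE_eq, sumE_eq]; omega
    rw [hs, mul_left_inj] at he
    replace he : dd a z v ^ occ v (cancelL p.2 q.2).1 = dd a z v ^ occ v (cancelL p.2 q.2).2 :=
      (occ_prod (dd a z) v (cancelL p.2 q.2).1 fun x hx => (ha x hx).imp id (hS x)).symm.trans
        (he.trans (occ_prod (dd a z) v (cancelL p.2 q.2).2 fun x hx => (hb x hx).imp id (hS x)))
    rcases hcnt with e | e <;> rw [e, pow_succ] at he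
    · exact mul_eq_left.1 he
    · exact mul_eq_left.1 he.symm
  · exact absurd h (by simp)

theorem run_spec (z : Subgroup.center X) (hc : Central a) :
    ∀ {S : ℕ} {l : List (ℕ × ℕ × ℕ × ℕ)} {T : ℕ}, runB S l T = true → Holds a z S → Holds a z T
  | S, [], T, h, hS => by
    rw [runB, Nat.beq_eq] at h
    rwa [← h]
  | S, (v, w, m₁, m₂) :: l, T, h, hS => by
    simp only [runB, Bool.and_eq_true] at h
    refine run_spec z hc h.2 fun k hk => ?_
    rcases hasB_insert hk with rfl | hk
    · exact step_spec z hc h.1 hS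
    · exact hS k hk

theorem res_spec (z : Subgroup.center X) (hc : Central a) {S w m₁ m₂ : ℕ} (h : resOK S w m₁ m₂ = true)
    (hS : Holds a z S) : z * z = 1 := by
  unfold resOK at h
  split at h
  · next p q hp hq =>
    simp only [Bool.and_eq_true, decide_eq_true_eq, List.all_eq_true, Nat.beq_eq] at h
    obtain ⟨⟨⟨huv, ha⟩, hb⟩, hsum⟩ := h
    have he := eq_of_cancel z (eq_of_replay z hc (u := p.1) (l₁ := p.2) (l₂ := q.2) hp
      (by rw [huv]; exact hq))
    have hs : ((cancelL p.2 q.2).1.map ex).sum = ((cancelL p.2 q.2).2.map ex).sum + 2 := by rw [sumE_eq, sumE_eq]; omega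
    have one : ∀ l : List ℕ, (∀ x ∈ l, hasB S x = true) → (l.map (dd a z)).prod = 1 := fun l hl =>
      List.prod_eq_one fun y hy => by
        obtain ⟨x, hx, rfl⟩ := List.mem_map.1 hy
        exact hS x (hl x hx)
    rw [hs, one _ ha, one _ hb, one_mul, one_mul, zpow_add, mul_eq_left] at he
    rwa [zpow_two] at he
  · exact absurd h (by simp)

end CfsgLib.KnownB.F4Mult
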