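import Cfsg.Agent.Lib.KnownB.F4Mult.Cover
import Cfsg.Agent.Lib.Schur.Basic
import Cfsg.Agent.Lib.Steinberg.Presented
import Cfsg.Agent.S1054
import Cfsg.Agent.S1078
import Cfsg.Agent.S2397

/-!
The Schur multiplier of the Chevalley group of type F4 over two elements has order two.
-/

set_option autoImplicit false
set_option maxRecDepth 100000

namespace CfsgLib.KnownB.F4Mult

open Cfsg.Lie CfsgLib.Chev

theorem cover_equiv (F : Type*) [Field F] [Finite F] :
    Nonempty (chevF4.SteinbergCover F ≃* ↥(chevF4.group F)) := by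
  obtain ⟨A, h, hC⟩ := CfsgLib.Steinberg.data_of_mem (D := chevF4) (by simp)
  obtain ⟨h1, h2, -⟩ := CfsgLib.Steinberg.presProj_spec h hC (le_refl _)
    (CfsgLib.Steinberg.relsAB_subset F)
  obtain ⟨e, -⟩ := Cfsg.Agent.S2397.result (K := F) chevF4 (by simp) (fun hmem => by
    simp only [List.mem_cons, List.not_mem_nil, or_false] at hmem
    rcases hmem with hh | hh <;> exact absurd (congrArg ChevalleyDatum.rank hh) (by decide))
  have hz : Subgroup.center (chevF4.SteinbergCover F) = ⊥ := by
    rw [eq_bot_iff]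
    intro z hz
    have h' : e z ∈ Subgroup.center (chevF4.SteinbergGroup F) := by
      rw [Subgroup.mem_center_iff] at hz ⊢
      intro w
      obtain ⟨w, rfl⟩ := e.surjective w
      rw [← map_mul, ← map_mul, hz w]
    rw [Cfsg.Agent.S1078.result chevF4 (by simp), Subgroup.mem_bot] at h'
    exact Subgroup.mem_bot.2 (e.injective (h'.trans e.map_one.symm))
  refine ⟨MulEquiv.ofBijective _ ⟨(MonoidHom.ker_eq_bot_iff _).1 ?_, h1⟩⟩
  rw [h2]
  exact hz

seal PackMat.toM PackMat.mul matOf idM

/-- two matrices differing in some entry -/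
theorem differs : ((List.range 52).any fun i => (List.range 52).any fun j =>
      !Nat.beq (PackMat.dg ((matOf 33).getD i 0) j) (PackMat.dg (idM.getD i 0) j)) = true ∧
    ((List.range 52).any fun i => (List.range 52).any fun j =>
      !Nat.beq ((PackMat.dg ((matOf 33).getD i 0) j + PackMat.dg (idM.getD i 0) j) % 5) 0) = true := by
  decide +kernel

unseal PackMat.toM in
theorem toM_ne_id : PackMat.toM (matOf 33) ≠ PackMat.toM idM := fun e => by
  have h := differs.1
  simp only [List.any_eq_true, List.mem_range, Bool.not_eq_true'] at h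
  obtain ⟨i, hi, j, hj, hb⟩ := h
  have he : (PackMat.dg ((matOf 33).getD i 0) j : ZMod 5) = (PackMat.dg (idM.getD i 0) j : ZMod 5) :=
    congrFun (congrFun e ⟨i, hi⟩) ⟨j, hj⟩
  rw [ZMod.natCast_eq_natCast_iff', Nat.mod_eq_of_lt (PackMat.rowOK_dg ((PackMat.ok_iff.1 (mat_ok (by norm_num))).2 _
    (PackMat.getD_mem (by rw [(PackMat.ok_iff.1 (mat_ok (r := 33) (by norm_num))).1]; exact hi))) j),
    Nat.mod_eq_of_lt (PackMat.rowOK_dg ((PackMat.ok_iff.1 idM_ok).2 _
    (PackMat.getD_mem (by rw [(PackMat.ok_iff.1 idM_ok).1]; exact hi))) j)] at he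
  rw [he] at hb
  simp at hb

unseal PackMat.toM in
theorem toM_ne_neg : PackMat.toM (matOf 33) ≠ -PackMat.toM idM := fun e => by
  have h := differs.2
  simp only [List.any_eq_true, List.mem_range, Bool.not_eq_true'] at h
  obtain ⟨i, hi, j, hj, hb⟩ := h
  have he : (PackMat.dg ((matOf 33).getD i 0) j : ZMod 5) = -(PackMat.dg (idM.getD i 0) j : ZMod 5) :=
    congrFun (congrFun e ⟨i, hi⟩) ⟨j, hj⟩
  have h0 : ((PackMat.dg ((matOf 33).getD i 0) j + PackMat.dg (idM.getD i 0) j : ℕ) : ZMod 5) = 0 := by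
    rw [Nat.cast_add, he, neg_add_cancel]
  rw [ZMod.natCast_eq_zero_iff, Nat.dvd_iff_mod_eq_zero] at h0
  rw [h0] at hb
  simp at hb

universe u

theorem hasMultiplier {F : Type u} [Field F] [Fintype F] (hF : Fintype.card F = 2) :
    Cfsg.HasCyclicSchurMultiplier ↥(chevF4.group F) 2 := by
  have hT : TwoEl F := fun t => by
    classical
    have hu : ({0, 1} : Finset F) = Finset.univ :=
      Finset.eq_univ_of_card _ (by rw [hF]; exact Finset.card_pair zero_ne_one)
    have ht : t ∈ ({0, 1} : Finset F) := by rw [hu]; exact Finset.mem_univ t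
    simpa using ht
  obtain ⟨iso⟩ := cover_equiv F
  haveI hsG := (Cfsg.Agent.S1054.result (F := F) chevF4 (by simp)).1
  haveI : Nontrivial (chevF4.SteinbergCover F) := iso.symm.injective.nontrivial
  haveI hs0 : IsSimpleGroup (chevF4.SteinbergCover F) :=
    IsSimpleGroup.isSimpleGroup_of_surjective (iso.symm : ↥(chevF4.group F) →* _) iso.symm.surjective
  obtain ⟨φ, hφ⟩ := exists_hom hT (fun r => (U r : P52)) (fun r hr => sq_P hr) (fun r s hp => rel_P hp)
  have hne : φ.ker ≠ ⊤ := fun hk => by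
    have h1 : (U 33 : P52) = 1 := (hφ 33 (by norm_num)).symm.trans (MonoidHom.mem_ker.1 (hk ▸ Subgroup.mem_top _))
    rw [QuotientGroup.eq_one_iff] at h1
    obtain ⟨k, hk⟩ := h1
    have hd : (U 33 : L52) = 1 ∨ (U 33 : L52) = -1 := by
      rcases Int.even_or_odd k with h | h
      · left; rw [← hk]; exact h.neg_one_zpow
      · right; rw [← hk]; exact h.neg_one_zpow
    have hnot := And.intro toM_ne_id toM_ne_neg
    rcases hd with e | e <;> have e' := congrArg Units.val e <;>
      rw [U_val (by norm_num)] at e' <;> simp only [Units.val_one, Units.val_neg, ← toM_idM] at e'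
    · exact hnot.1 e'
    · exact hnot.2 e'
  have hinj : Function.Injective φ := (MonoidHom.ker_eq_bot_iff φ).1
    ((Subgroup.Normal.eq_bot_or_eq_top (inferInstance : φ.ker.Normal)).resolve_right hne)
  have hmem : ∀ g : ↥E, (QuotientGroup.mk' sgn52) (g : L52) ∈ φ.range := by
    rintro ⟨g, hg⟩
    suffices h : E ≤ φ.range.comap (QuotientGroup.mk' sgn52) from h hg
    rw [E, Subgroup.closure_le]
    rintro _ ⟨r, hr, rfl⟩
    exact ⟨X r, hφ r hr⟩
  let σ₀ : ↥E →* ↥(chevF4.group F) := iso.toMonoidHom.comp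
    ((MonoidHom.ofInjective hinj).symm.toMonoidHom.comp
      (((QuotientGroup.mk' sgn52).comp E.subtype).codRestrict φ.range hmem))
  have hker : σ₀.ker = sgn52.subgroupOf E := by
    ext g
    simp only [σ₀, MonoidHom.mem_ker, MonoidHom.comp_apply, MulEquiv.coe_toMonoidHom,
      MulEquiv.map_eq_one_iff, Subgroup.mem_subgroupOf, Subtype.ext_iff, OneMemClass.coe_one]
    exact QuotientGroup.eq_one_iff _
  have hsurj : Function.Surjective σ₀ := by
    rw [← MonoidHom.range_eq_top]
    have key : Subgroup.map iso.toMonoidHom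
        (Subgroup.closure {g : chevF4.SteinbergCover F | ∃ r < 48, g = X r}) ≤ σ₀.range := by
      rw [MonoidHom.map_closure, Subgroup.closure_le]
      rintro _ ⟨_, ⟨r, hr, rfl⟩, rfl⟩
      refine ⟨⟨U r, U_mem hr⟩, ?_⟩
      simp only [σ₀, MonoidHom.comp_apply, MulEquiv.coe_toMonoidHom]
      congr 1
      apply (MonoidHom.ofInjective hinj).injective
      rw [MulEquiv.apply_symm_apply]
      exact Subtype.ext (hφ r hr).symm
    rw [closure_X hT, ← MonoidHom.range_eq_map, MonoidHom.range_eq_top.2 iso.surjective] at key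
    exact top_le_iff.1 key
  have hsle : sgn52 ≤ E := Subgroup.zpowers_le.2 neg_one_mem
  have hcard : Nat.card σ₀.ker = 2 := by
    rw [hker, Nat.card_congr (Subgroup.subgroupOfEquivOfLe hsle).toEquiv, card_sgn52]
  have hstem : Cfsg.IsStemExtension σ₀ := by
    refine ⟨hsurj, ?_, ?_⟩
    · rw [hker]
      intro g hg
      refine Subgroup.mem_center_iff.2 fun h => Subtype.ext ?_
      exact Subgroup.mem_center_iff.1 (sgn52_le_center hg) h
    · rw [commutator_E]; exact le_top
  haveI : Finite L52 := inferInstance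
  refine CfsgLib.Schur.hasCyclicSchurMultiplier_of_bound hstem hcard ?_
  intro Γ _ _ σ hσ
  obtain ⟨hσs, hσc, hσd⟩ := hσ
  have hk' : (iso.symm.toMonoidHom.comp σ).ker = σ.ker :=
    MonoidHom.ker_comp_of_injective _ _ iso.symm.injective
  obtain ⟨z, hz2, hzle⟩ := ker_inf_commutator hT (iso.symm.toMonoidHom.comp σ)
    (iso.symm.surjective.comp hσs) (hk' ▸ hσc)
  rw [hk', inf_eq_left.2 hσd] at hzle
  refine ⟨isCyclic_of_injective (Subgroup.inclusion hzle) (Subgroup.inclusion_injective hzle), ?_⟩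
  refine le_trans (Subgroup.card_le_of_le hzle) ?_
  rw [Nat.card_zpowers]
  exact orderOf_le_of_pow_eq_one (by norm_num) (by rw [sq, hz2])

end CfsgLib.KnownB.F4Mult
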