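import Cfsg.Agent.Lib.KnownB.F4Mult.Derive

/-! The kernel checks of the derivation. -/

set_option autoImplicit false
set_option maxRecDepth 100000
set_option Elab.async false

namespace CfsgLib.KnownB.F4Mult

/-- the code of the base defect -/
def baseCode : ℕ := 1658

/-- the first root of the chosen decomposition -/
noncomputable def decP (r : ℕ) : ℕ := Nat.shiftRight decBits (12 * r) % 4096 / 64

/-- the second root of the chosen decomposition -/
noncomputable def decQ (r : ℕ) : ℕ := Nat.shiftRight decBits (12 * r) % 64

/-- the defects fixed by the choice of lifts -/
noncomputable def iniCodes : List ℕ := baseCode :: (List.range 48).map fun r => decP r * 48 + decQ r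

theorem ini_spec : iniCodes.foldl (fun S v => S ||| Nat.shiftLeft 1 v) 0 = known0 := by decide +kernel

theorem dec_spec : ((List.range 48).all fun r => pairB (decP r) (decQ r) &&
    decide (Wl (decP r) (decQ r) = [r]) && Nat.beq (eo (decP r * 48 + decQ r)) 8) = true := by
  decide +kernel

theorem base_spec : eo baseCode = 9 ∧ vOK baseCode = true := by decide +kernel

theorem run0 : runB known0 steps0 known1 = true := by decide +kernel

theorem run1 : runB known1 steps1 known2 = true := by decide +kernel

theorem run2 : runB known2 steps2 known3 = true := by decide +kernel

theorem run3 : runB known3 steps3 known4 = true := by decide +kernel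

theorem run4 : runB known4 steps4 known5 = true := by decide +kernel

theorem run5 : runB known5 steps5 known6 = true := by decide +kernel

theorem run6 : runB known6 steps6 known7 = true := by decide +kernel

theorem run7 : runB known7 steps7 known8 = true := by decide +kernel

theorem run8 : runB known8 steps8 known9 = true := by decide +kernel

theorem run9 : runB known9 steps9 known10 = true := by decide +kernel

theorem run10 : runB known10 steps10 known11 = true := by decide +kernel

theorem run11 : runB known11 steps11 known12 = true := by decide +kernel

theorem run12 : runB known12 steps12 known13 = true := by decide +kernel

theorem run13 : runB known13 steps13 known14 = true := by decide +kernel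

theorem run14 : runB known14 steps14 known15 = true := by decide +kernel

theorem final_spec : ((List.range 2352).all fun k => !vOK k || hasB known15 k) = true := by decide +kernel

theorem res_check : resOK known15 resStep.1 resStep.2.1 resStep.2.2 = true := by decide +kernel

end CfsgLib.KnownB.F4Mult
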