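import Cfsg.Agent.Lib.KnownB.F4Mult.PackMat
import Cfsg.Agent.Lib.KnownB.F4Mult.MatData
import Cfsg.Agent.Lib.KnownB.F4Mult.Derive
import Cfsg.Agent.Lib.KnownB.F4Mult.StepChecks

/-! The tests on the matrices. -/

set_option autoImplicit false
set_option maxRecDepth 100000

namespace CfsgLib.KnownB.F4Mult

open PackMat

/-- the reflection on the roots -/
noncomputable def pI (i r : ℕ) : ℕ := Nat.shiftRight (reflBits i) (6 * r) % 64

/-- the fundamental root -/
def simp4 : ℕ → ℕ
  | 0 => 33
  | 1 => 27
  | 2 => 25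
  | _ => 24

/-- the identity -/
def idM : List ℕ := (List.range 52).map fun i => 1024 ^ i

/-- the product along a word -/
noncomputable def rhsM (r s : ℕ) : List ℕ :=
  (Wl r s).foldl (fun acc x => PackMat.mul acc (matOf x)) (PackMat.mul (matOf r) (matOf s))

/-- the matrix of a reflection is the product of three root matrices -/
noncomputable def nOK (i : ℕ) : Bool :=
  eqM (PackMat.mul (PackMat.mul (matOf (simp4 i)) (matOf (47 - simp4 i))) (matOf (simp4 i))) (nOf i)

/-- conjugation by a reflection -/
noncomputable def conjOK (i r : ℕ) : Bool :=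
  Nat.blt (pI i r) 48 && eqPM (PackMat.mul (nOf i) (matOf r)) (PackMat.mul (matOf (pI i r)) (nOf i))

/-- a relation -/
noncomputable def relOK (p : ℕ × ℕ) : Bool :=
  pairB p.1 p.2 && eqPM (PackMat.mul (matOf p.2) (matOf p.1)) (rhsM p.1 p.2)

/-- squares -/
noncomputable def sqOK (r : ℕ) : Bool := eqPM (PackMat.mul (matOf r) (matOf r)) idM

/-- a root matrix is a commutator of two others -/
noncomputable def decOK (r : ℕ) : Bool :=
  eqM (PackMat.mul (matOf (decQ r)) (matOf (decP r)))
    (PackMat.mul (PackMat.mul (matOf (decP r)) (matOf (decQ r))) (matOf r))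

/-- one relation with the sign minus one -/
noncomputable def negOK : Bool :=
  pairB negRel.1 negRel.2 &&
    eqM (PackMat.mul (matOf negRel.2) (matOf negRel.1)) (PackMat.neg (rhsM negRel.1 negRel.2))

/-- the relations obtained by conjugation -/
noncomputable def spread : ℕ → List (ℕ × ℕ × ℕ) → ℕ → Bool
  | S, [], T => Nat.beq S T
  | S, (i, r, s) :: l, T =>
    hasB S (r * 48 + s) && Nat.blt i 4 && Nat.blt r 48 && Nat.blt s 48 && pairB (pI i r) (pI i s) &&
      decide (Wl (pI i r) (pI i s) = (Wl r s).map (pI i)) && ((Wl r s).all fun x => Nat.blt x 48) &&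
      spread (S ||| Nat.shiftLeft 1 (pI i r * 48 + pI i s)) l T

end CfsgLib.KnownB.F4Mult
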