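import Mathlib

/-!
Matrices modulo five with each row packed into one number, ten bits for an entry.
-/

set_option autoImplicit false

namespace CfsgLib.KnownB.F4Mult.PackMat

/-- entry of a packed row -/
def dg (n j : ℕ) : ℕ := n / 1024 ^ j % 1024

/-- evaluate before use -/
noncomputable def force {α : Type} (n : ℕ) (k : ℕ → α) : α :=
  Nat.rec (motive := fun _ => α) (k 0) (fun m _ => k (m + 1)) n

theorem force_eq {α : Type} (n : ℕ) (k : ℕ → α) : force n k = k n := by cases n <;> rfl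

/-- a row times a matrix, before reduction -/
noncomputable def dot : List ℕ → ℕ → ℕ → ℕ
  | [], _, acc => acc
  | b :: B, a, acc => force (acc + a % 1024 * b) fun acc' => force (a / 1024) fun a' => dot B a' acc'

/-- reduce the entries -/
noncomputable def red : ℕ → ℕ → ℕ
  | 0, _ => 0
  | f + 1, S => S % 1024 % 5 + 1024 * force (S / 1024) fun S' => red f S'

/-- the product -/
noncomputable def mul : List ℕ → List ℕ → List ℕ
  | [], _ => []
  | a :: A, B => force (red 52 (force a fun a' => dot B a' 0)) fun r => r :: mul A B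

/-- all entries of a row below five -/
noncomputable def rowOK : ℕ → ℕ → Bool
  | 0, n => Nat.beq n 0
  | f + 1, n => Nat.blt (n % 1024) 5 && rowOK f (n / 1024)

/-- a well formed matrix -/
noncomputable def ok (A : List ℕ) : Bool := Nat.beq A.length 52 && A.all (rowOK 52)

/-- minus the matrix -/
noncomputable def neg : List ℕ → List ℕ
  | [] => []
  | a :: A => force (red 52 (4 * a)) fun r => r :: neg A

/-- equality -/
noncomputable def eqM : List ℕ → List ℕ → Bool
  | [], [] => true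
  | a :: A, b :: B => Nat.beq a b && eqM A B
  | _, _ => false

/-- equality up to sign -/
noncomputable def eqPM (A B : List ℕ) : Bool := eqM A B || eqM A (neg B)

theorem eqM_iff : ∀ {A B : List ℕ}, eqM A B = true → A = B
  | [], [], _ => rfl
  | [], _ :: _, h => by simp [eqM] at h
  | _ :: _, [], h => by simp [eqM] at h
  | a :: A, b :: B, h => by
    simp only [eqM, Bool.and_eq_true, Nat.beq_eq] at h
    rw [h.1, eqM_iff h.2]

theorem dg_zero (n : ℕ) : dg n 0 = n % 1024 := by simp [dg]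

theorem dg_succ (n j : ℕ) : dg n (j + 1) = dg (n / 1024) j := by
  rw [dg, dg, pow_succ', Nat.div_div_eq_div_mul]

theorem rowOK_dg : ∀ {f n : ℕ}, rowOK f n = true → ∀ j, dg n j < 5
  | 0, n, h, j => by simp only [rowOK, Nat.beq_eq] at h; simp [h, dg]
  | f + 1, n, h, j => by
    simp only [rowOK, Bool.and_eq_true, Nat.blt_eq] at h
    cases j with
    | zero => rw [dg_zero]; exact h.1
    | succ j => rw [dg_succ]; exact rowOK_dg h.2 j

theorem rowOK_lt : ∀ {f n : ℕ}, rowOK f n = true → n < 1024 ^ f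
  | 0, n, h => by simp only [rowOK, Nat.beq_eq] at h; simp [h]
  | f + 1, n, h => by
    simp only [rowOK, Bool.and_eq_true, Nat.blt_eq] at h
    have := rowOK_lt h.2
    have := Nat.div_add_mod n 1024
    rw [pow_succ']
    omega

theorem eq_sum_dg : ∀ {f n : ℕ}, n < 1024 ^ f → n = ∑ j : Fin f, dg n j * 1024 ^ (j : ℕ)
  | 0, n, h => by simp at h; simp [h]
  | f + 1, n, h => by
    rw [Fin.sum_univ_succ]
    have h' : n / 1024 < 1024 ^ f := by
      rw [Nat.div_lt_iff_lt_mul (by norm_num)]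
      rwa [pow_succ] at h
    have e := eq_sum_dg h'
    simp only [Fin.val_zero, dg_zero, pow_zero, mul_one, Fin.val_succ, dg_succ, pow_succ', mul_left_comm _ 1024,
      ← Finset.mul_sum]
    rw [← e]
    exact (Nat.mod_add_div n 1024).symm

theorem dg_sum : ∀ {f : ℕ} (c : Fin f → ℕ), (∀ j, c j < 1024) → ∀ j : Fin f,
    dg (∑ k : Fin f, c k * 1024 ^ (k : ℕ)) j = c j
  | 0, _, _, j => j.elim0
  | f + 1, c, hc, j => by
    have e : ∑ k : Fin (f + 1), c k * 1024 ^ (k : ℕ) = c 0 + 1024 * ∑ k : Fin f, c k.succ * 1024 ^ (k : ℕ) := by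
      simp only [Fin.sum_univ_succ, Fin.val_zero, pow_zero, mul_one, Fin.val_succ, pow_succ',
        mul_left_comm _ 1024, ← Finset.mul_sum]
    rw [e]
    refine Fin.cases ?_ ?_ j
    · rw [Fin.val_zero, dg_zero, Nat.add_mul_mod_self_left, Nat.mod_eq_of_lt (hc 0)]
    · intro i
      rw [Fin.val_succ, dg_succ, Nat.add_mul_div_left _ _ (by norm_num), Nat.div_eq_of_lt (hc 0), zero_add]
      exact dg_sum (fun k => c k.succ) (fun k => hc _) i

theorem dot_eq : ∀ (B : List ℕ) (a acc : ℕ),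
    dot B a acc = acc + ∑ k : Fin B.length, dg a k * B[(k : ℕ)]
  | [], a, acc => by simp [dot]
  | b :: B, a, acc => by
    rw [dot, force_eq, force_eq, dot_eq B]
    show _ = acc + ∑ k : Fin (B.length + 1), _
    rw [Fin.sum_univ_succ]
    simp only [Fin.val_zero, List.getElem_cons_zero, dg_zero, Fin.val_succ, List.getElem_cons_succ, dg_succ]
    ring

theorem red_dg : ∀ (f S : ℕ) (j : ℕ), j < f → dg (red f S) j = dg S j % 5
  | f + 1, S, j, hj => by
    have hlt : S % 1024 % 5 < 1024 := lt_trans (Nat.mod_lt _ (by norm_num)) (by norm_num)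
    rw [red, force_eq]
    cases j with
    | zero => rw [dg_zero, dg_zero, Nat.add_mul_mod_self_left, Nat.mod_eq_of_lt hlt]
    | succ j =>
      rw [dg_succ, dg_succ, Nat.add_mul_div_left _ _ (by norm_num), Nat.div_eq_of_lt hlt, zero_add]
      exact red_dg f _ j (by omega)

theorem red_rowOK : ∀ (f S : ℕ), rowOK f (red f S) = true
  | 0, _ => rfl
  | f + 1, S => by
    have hlt : S % 1024 % 5 < 5 := Nat.mod_lt _ (by norm_num)
    rw [red, force_eq, rowOK, Nat.add_mul_mod_self_left, Nat.mod_eq_of_lt (by omega),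
      Nat.add_mul_div_left _ _ (by norm_num), Nat.div_eq_of_lt (by omega), zero_add, red_rowOK f]
    simp [hlt]

theorem mul_eq_map : ∀ (A B : List ℕ), mul A B = A.map fun a => red 52 (dot B a 0)
  | [], _ => rfl
  | a :: A, B => by rw [mul, force_eq, force_eq, mul_eq_map A B]; rfl

theorem neg_eq_map : ∀ (A : List ℕ), neg A = A.map fun a => red 52 (4 * a)
  | [] => rfl
  | a :: A => by rw [neg, force_eq, neg_eq_map A]; rfl

theorem ok_iff {A : List ℕ} : ok A = true ↔ A.length = 52 ∧ ∀ a ∈ A, rowOK 52 a = true := by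
  simp [ok, List.all_eq_true]

theorem ok_mul {A B : List ℕ} (hA : ok A = true) : ok (mul A B) = true := by
  rw [ok_iff, mul_eq_map, List.length_map]
  refine ⟨(ok_iff.1 hA).1, ?_⟩
  simp [red_rowOK]

/-- the matrix of a packed matrix -/
def toM (A : List ℕ) : Matrix (Fin 52) (Fin 52) (ZMod 5) := fun i j => (dg (A.getD (i : ℕ) 0) (j : ℕ) : ZMod 5)

theorem getD_map {A : List ℕ} (g : ℕ → ℕ) {i : ℕ} (hi : i < A.length) :
    (A.map g).getD i 0 = g (A.getD i 0) := by
  rw [List.getD_eq_getElem _ _ (by simpa using hi), List.getD_eq_getElem _ _ hi, List.getElem_map]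

theorem getD_mem {A : List ℕ} {i : ℕ} (hi : i < A.length) : A.getD i 0 ∈ A := by
  rw [List.getD_eq_getElem _ _ hi]; exact List.getElem_mem hi

theorem dot_dg {n : ℕ} (hn : n * 16 < 1024) {a : ℕ} {B : List ℕ} (lB : B.length = n)
    (hd : ∀ k, dg a k < 5) (rB : ∀ b ∈ B, rowOK n b = true) (j : Fin n) :
    dg (dot B a 0) j = ∑ k : Fin n, dg a k * dg (B.getD (k : ℕ) 0) j := by
  have hk : ∀ k : Fin n, rowOK n (B.getD (k : ℕ) 0) = true := fun k =>
    rB _ (getD_mem (i := (k : ℕ)) (by rw [lB]; exact k.2))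
  have hcb : ∀ j : Fin n, ∑ k : Fin n, dg a k * dg (B.getD (k : ℕ) 0) j < 1024 := fun j => by
    refine lt_of_le_of_lt (Finset.sum_le_card_nsmul _ _ 16 fun k _ => ?_) (by simpa using hn)
    have h1 := hd (k : ℕ)
    have h2 := rowOK_dg (hk k) (j : ℕ)
    exact Nat.mul_le_mul (show dg a k ≤ 4 by omega) (show _ ≤ 4 by omega)
  have hS : dot B a 0 = ∑ j : Fin n, (∑ k : Fin n, dg a k * dg (B.getD (k : ℕ) 0) j) * 1024 ^ (j : ℕ) := by
    rw [dot_eq, zero_add]
    rw [show (∑ k : Fin B.length, dg a k * B[(k : ℕ)]) = ∑ k : Fin n, dg a k * B.getD (k : ℕ) 0 from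
      Fintype.sum_equiv (finCongr lB) _ _ fun k => by simp]
    simp only [Finset.sum_mul]
    rw [Finset.sum_comm]
    refine Finset.sum_congr rfl fun k _ => ?_
    conv_lhs => rw [eq_sum_dg (rowOK_lt (hk k))]
    rw [Finset.mul_sum]
    exact Finset.sum_congr rfl fun j _ => by ring
  rw [hS]
  exact dg_sum (fun j : Fin n => ∑ k : Fin n, dg a k * dg (B.getD (k : ℕ) 0) j) hcb j

theorem toM_mul {A B : List ℕ} (hA : ok A = true) (hB : ok B = true) : toM (mul A B) = toM A * toM B := by
  obtain ⟨lA, rA⟩ := ok_iff.1 hA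
  obtain ⟨lB, rB⟩ := ok_iff.1 hB
  funext i j
  have hi : (i : ℕ) < A.length := by rw [lA]; exact i.2
  rw [Matrix.mul_apply]
  simp only [toM]
  rw [mul_eq_map, getD_map _ hi, red_dg 52 _ _ j.2, ZMod.natCast_mod,
    dot_dg (by norm_num) lB (rowOK_dg (rA _ (getD_mem hi))) rB j, Nat.cast_sum]
  exact Finset.sum_congr rfl fun k _ => Nat.cast_mul _ _

theorem toM_neg {A : List ℕ} (hA : ok A = true) : toM (neg A) = -toM A := by
  obtain ⟨lA, rA⟩ := ok_iff.1 hA
  funext i j
  have hi : (i : ℕ) < A.length := by rw [lA]; exact i.2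
  simp only [Matrix.neg_apply, toM]
  rw [neg_eq_map, getD_map _ hi, red_dg 52 _ _ j.2, ZMod.natCast_mod]
  obtain ⟨a, ha⟩ : ∃ a, a = A.getD (i : ℕ) 0 := ⟨_, rfl⟩
  rw [← ha]
  have hd := rowOK_dg (rA a (ha ▸ getD_mem hi))
  have hlt := rowOK_lt (rA a (ha ▸ getD_mem hi))
  have h4 : 4 * a = ∑ j : Fin 52, (4 * dg a j) * 1024 ^ (j : ℕ) := by
    conv_lhs => rw [eq_sum_dg hlt]
    rw [Finset.mul_sum]
    exact Finset.sum_congr rfl fun j _ => by ring
  rw [h4, dg_sum (fun j : Fin 52 => 4 * dg a j) (fun k => by have := hd (k : ℕ); omega) j, Nat.cast_mul]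
  rw [show ((4 : ℕ) : ZMod 5) = -1 by decide]
  ring

theorem of_eqPM {A B : List ℕ} (hB : ok B = true) (h : eqPM A B = true) :
    toM A = toM B ∨ toM A = -toM B := by
  rcases (Bool.or_eq_true _ _).mp h with e | e
  · exact Or.inl (congrArg toM (eqM_iff e))
  · exact Or.inr ((congrArg toM (eqM_iff e)).trans (toM_neg hB))

end CfsgLib.KnownB.F4Mult.PackMat
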