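import Cfsg.Agent.Lib.KnownB.F4Mult.RelData
import Cfsg.Agent.Lib.Chev.Comm
import Cfsg.Agent.Lib.Chev.Types
import Cfsg.Agent.Lib.Steinberg.Presented

/-!
The relations of the presented group of type F4 over two elements, in root elements with parameter one.
-/

set_option autoImplicit false
set_option maxRecDepth 100000

namespace CfsgLib.KnownB.F4Mult

open Cfsg.Lie CfsgLib.Chev CfsgLib.KnownB.U62Mult

/-- unpack up to three letters -/
noncomputable def dec3 (v : ℕ) : List ℕ :=
  bif Nat.beq v 0 then []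
  else bif Nat.beq (v / 64) 0 then [v % 64 - 1]
  else bif Nat.beq (v / 4096) 0 then [v % 64 - 1, v / 64 % 64 - 1]
  else [v % 64 - 1, v / 64 % 64 - 1, v / 4096 - 1]

/-- the word of the commutator of two root elements -/
noncomputable def Wl (r s : ℕ) : List ℕ := dec3 (relT.get (r + 64 * s))

/-- two roots of which neither is the other or its negative -/
noncomputable def pairB (r s : ℕ) : Bool :=
  Nat.blt r 48 && Nat.blt s 48 && !Nat.beq s r && !Nat.beq (r + s) 47

/-- the words agree with the commutator formula -/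
noncomputable def wordChk : Bool :=
  (List.range 48).all fun r => decide (auxF4.neg r + r = 47) &&
    (List.range 48).all fun s => !pairB r s ||
      (decide ((((auxF4.terms r s).filter fun c => decide (c.2.1 % 2 ≠ 0)).map Prod.fst) = Wl r s) &&
        ((Wl r s).all fun x => Nat.blt x 48) &&
        (auxF4.terms r s).all fun c => Nat.blt 0 c.2.2.1 && Nat.blt 0 c.2.2.2)

theorem wordChk_true : wordChk = true := by decide +kernel

theorem pairB_iff {r s : ℕ} : pairB r s = true ↔ r < 48 ∧ s < 48 ∧ s ≠ r ∧ r + s ≠ 47 := by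
  simp only [pairB, Bool.and_eq_true, Bool.not_eq_true', Nat.blt_eq, and_assoc]
  exact and_congr Iff.rfl (and_congr Iff.rfl (and_congr
    (by rw [← Bool.not_eq_true, Nat.beq_eq]) (by rw [← Bool.not_eq_true, Nat.beq_eq])))

theorem wordChk_spec {r s : ℕ} (h : pairB r s = true) :
    auxF4.neg r + r = 47 ∧
      (((auxF4.terms r s).filter fun c => decide (c.2.1 % 2 ≠ 0)).map Prod.fst) = Wl r s ∧
        (∀ x ∈ Wl r s, x < 48) ∧ ∀ c ∈ auxF4.terms r s, 0 < c.2.2.1 ∧ 0 < c.2.2.2 := by
  obtain ⟨hr, hs, -, -⟩ := pairB_iff.1 h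
  have hc := wordChk_true
  simp only [wordChk, List.all_eq_true, List.mem_range, Bool.and_eq_true, decide_eq_true_eq,
    Bool.or_eq_true, Bool.not_eq_true', Nat.blt_eq] at hc
  obtain ⟨hn, hc⟩ := hc r hr
  rcases hc s hs with hf | hf
  · rw [h] at hf; exact absurd hf (by simp)
  · exact ⟨hn, hf.1.1, hf.1.2, hf.2⟩

theorem neg_eq {r : ℕ} (hr : r < 48) : chevF4.neg r = 47 - r := by
  have : ∀ r < 48, chevF4.neg r = 47 - r := by decide +kernel
  exact this r hr

variable {F : Type*} [Field F]

/-- the root element with parameter one -/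
noncomputable def X (r : ℕ) : chevF4.SteinbergCover F := chevF4.scGen F r 1

theorem gen_add {r : ℕ} (hr : r < 48) (t u : F) :
    chevF4.scGen F r t * chevF4.scGen F r u = chevF4.scGen F r (t + u) :=
  mul_inv_eq_one.1 (PresentedGroup.one_of_mem (rels := chevF4.steinbergRelsAB F)
    (x := chevF4.stX r t * chevF4.stX r u * (chevF4.stX r (t + u))⁻¹) (Or.inl ⟨r, t, u, hr, rfl⟩))

theorem gen_zero {r : ℕ} (hr : r < 48) : chevF4.scGen F r (0 : F) = 1 := by
  have := gen_add hr (0 : F) 0
  rwa [add_zero, mul_eq_left] at this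

variable (h2 : (2 : F) = 0)
include h2

theorem X_sq {r : ℕ} (hr : r < 48) : X (F := F) r * X r = 1 := by
  rw [X, gen_add hr, one_add_one_eq_two, h2, gen_zero hr]

theorem X_inv {r : ℕ} (hr : r < 48) : (X (F := F) r)⁻¹ = X r :=
  inv_eq_of_mul_eq_one_right (X_sq h2 hr)

theorem cast_mod (c : ℤ) : (c : F) = if c % 2 = 0 then 0 else 1 := by
  conv_lhs => rw [← Int.emod_add_mul_ediv c 2]
  rw [Int.cast_add, Int.cast_mul, Int.cast_ofNat, h2, zero_mul, add_zero]
  rcases Int.emod_two_eq_zero_or_one c with e | e <;> simp [e]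

/-- the value of the word of the commutator formula with parameters one -/
theorem word_val {Γ : Type*} [Group Γ] (φ : FreeGroup (Fin chevF4.nroots × F) →* Γ)
    (h0 : ∀ x < 48, φ (chevF4.stX x 0) = 1) {r s : ℕ} (h : pairB r s = true) :
    φ (chevF4.stWord (chevF4.commWord F r s 1 1)) =
      ((Wl r s).map fun x => φ (chevF4.stX x (1 : F))).prod := by
  obtain ⟨hr, hs, -, -⟩ := pairB_iff.1 h
  obtain ⟨-, hw, -⟩ := wordChk_spec h
  have hm : (-1 : F) = 1 := by linear_combination -h2
  rw [← hw, ChevalleyDatum.stWord, ChevalleyDatum.commWord, commTerms_eq stdF4.good hr hs, map_list_prod,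
    List.map_map, List.map_map]
  have hlt : ∀ c ∈ auxF4.terms r s, c.1 < 48 := fun c hc => (terms_mem stdF4.good hr hs hc).1
  generalize auxF4.terms r s = L at hlt ⊢
  induction L with
  | nil => rfl
  | cons c l ih =>
    have ih := ih fun d hd => hlt d (List.mem_cons_of_mem _ hd)
    have hc := hlt c (List.mem_cons_self ..)
    rw [List.map_cons, List.prod_cons, ih]
    show φ (chevF4.stX c.1 ((c.2.1 : F) * (-1) ^ c.2.2.1 * 1 ^ c.2.2.2)) * _ = _
    rw [hm, one_pow, one_pow, mul_one, mul_one, cast_mod h2]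
    by_cases e : c.2.1 % 2 = 0
    · rw [if_pos e, h0 _ hc, one_mul, List.filter_cons_of_neg (by simp [e])]
    · rw [if_neg e, List.filter_cons_of_pos (by simpa using e), List.map_cons, List.map_cons, List.prod_cons]

/-- the commutation of two root elements -/
theorem X_rel {r s : ℕ} (h : pairB r s = true) :
    X (F := F) s * X r = X r * X s * ((Wl r s).map X).prod := by
  obtain ⟨hr, hs, hne, hn⟩ := pairB_iff.1 h
  have hrel := PresentedGroup.one_of_mem (rels := chevF4.steinbergRelsAB F)
    (x := (chevF4.stX s (1 : F))⁻¹ * (chevF4.stX r 1)⁻¹ * chevF4.stX s 1 * chevF4.stX r 1 *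
      (chevF4.stWord (chevF4.commWord F r s 1 1))⁻¹)
    (Or.inr ⟨r, s, 1, 1, hr, hs, hne, by rw [neg_eq hr]; omega, rfl⟩)
  simp only [map_mul, map_inv, mul_inv_eq_one] at hrel
  have hW : PresentedGroup.mk _ (chevF4.stWord (chevF4.commWord F r s 1 1)) = ((Wl r s).map X).prod :=
    word_val h2 (PresentedGroup.mk (chevF4.steinbergRelsAB F)) (fun x hx => gen_zero hx) h
  rw [← hW, ← hrel]
  simp only [X, ChevalleyDatum.scGen]
  group

end CfsgLib.KnownB.F4Mult
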