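import Cfsg.Agent.Lib.KnownB.U62Mult.Trie

/-! The words of the commutator relations. -/

set_option autoImplicit false
set_option maxRecDepth 100000

namespace CfsgLib.KnownB.F4Mult

open CfsgLib.KnownB.U62Mult

/-- the word of a pair, packed -/
def relT : Trie := (.nd (.nd (.nd (.nd (.nd (.nd (.nd (.nd (.nd (.nd (.nd (.nd (.lf 0) (.lf 6)) (.lf 0)) (.nd (.nd (.lf 0) (.lf 1996)) (.nd (.lf 2) (.lf 0)))) (.nd (.nd (.nd (.lf 0) (.lf 1160)) (.lf 0)) (.nd (.nd (.lf 0) (.lf 2707)) (.lf 0)))) (.nd (.nd (.lf 0) (.nd (.nd (.lf 0) (.lf 16)) (.nd (.lf 3) (.lf 0)))) (.nd (.nd (.nd (.lf 0) (.lf 1481)) (.lf 0)) (.nd (.nd (.lf 0) (.lf 24)) (.lf 0))))) (.nd (.nd (.lf 0) (.nd (.lf 0) (.nd (.nd (.lf 0) (.lf 22)) (.nd (.lf 452) (.lf 0))))) (.nd (.nd (.lf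 0) (.nd (.nd (.lf 0) (.lf 17)) (.lf 0))) (.nd (.nd (.nd (.lf 0) (.lf 1674)) (.lf 0)) (.nd (.lf 0) (.nd (.lf 5) (.lf 0))))))) (.nd (.nd (.nd (.nd (.nd (.nd (.lf 6) (.lf 0)) (.nd (.lf 26) (.lf 0))) (.nd (.nd (.lf 335) (.lf 0)) (.lf 0))) (.lf 0)) (.nd (.nd (.nd (.nd (.lf 0) (.lf 2985)) (.nd (.lf 1565) (.lf 0))) (.nd (.nd (.lf 0) (.lf 48)) (.lf 0))) (.nd (.nd (.lf 0) (.nd (.lf 32) (.lf 0))) (.lf 0)))) (.nd (.nd (.nd (.nd (.nd (.lf 7) (.lf 2856)) (.nd (.lf 27) (.lf 0))) (.nd (.nd (.lf 0) (.lf 47)) (.lf 0))) (.nd (.nd (.lf 0) (.nd (.lf 31) (.lf 0))) (.lf 0))) (.nd (.nd (.nd (.lf 0) (.nd (.lf 1630) (.lf 0))) (.lf 0)) (.nd (.nd (.nd (.lf 206) (.lf 0)) (.lf 0)) (.lf 0)))))) (.nd (.nd (.nd (.nd (.nd (.nd (.nd (.lf 0) (.lf 26)) (.lf 0)) (.nd (.nd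 (.lf 0) (.lf 3044)) (.nd (.lf 18) (.lf 0)))) (.nd (.nd (.nd (.lf 1) (.lf 0)) (.lf 0)) (.nd (.nd (.lf 136) (.lf 0)) (.lf 0)))) (.nd (.lf 0) (.nd (.nd (.nd (.lf 3) (.lf 2786)) (.nd (.lf 16) (.lf 0))) (.nd (.nd (.lf 394) (.lf 0)) (.nd (.lf 24) (.lf 0)))))) (.nd (.nd (.lf 0) (.nd (.lf 0) (.nd (.nd (.lf 0) (.lf 42)) (.nd (.lf 1749) (.lf 0))))) (.nd (.nd (.lf 0) (.nd (.lf 0) (.nd (.lf 1427) (.lf 0)))) (.nd (.lf 0) (.nd (.nd (.lf 0) (.lf 44)) (.lf 0)))))) (.lf 0))) (.nd (.nd (.nd (.nd (.nd (.nd (.nd (.nd (.lf 0) (.lf 335)) (.lf 0)) (.nd (.nd (.lf 0) (.lf 28)) (.lf 0))) (.nd (.nd (.nd (.lf 0) (.lf 20)) (.nd (.lf 8) (.lf 0))) (.nd (.nd (.lf 0) (.lf 35)) (.nd (.lf 12) (.lf 0))))) (.nd (.nd (.lf 0) (.nd (.lf 0) (.nd (.lf 139) (.lf 0)))) (.nd (.lf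 0) (.nd (.nd (.lf 0) (.lf 1446)) (.lf 0))))) (.nd (.nd (.nd (.lf 0) (.nd (.lf 0) (.nd (.lf 74) (.lf 0)))) (.nd (.lf 0) (.nd (.nd (.lf 4) (.lf 0)) (.nd (.lf 13) (.lf 0))))) (.nd (.nd (.nd (.nd (.lf 0) (.lf 19)) (.lf 0)) (.nd (.nd (.lf 0) (.lf 1058)) (.lf 0))) (.nd (.lf 0) (.nd (.nd (.lf 0) (.lf 1511)) (.lf 0)))))) (.nd (.nd (.nd (.nd (.nd (.nd (.lf 1996) (.lf 0)) (.nd (.lf 3044) (.lf 0))) (.nd (.nd (.lf 28) (.lf 0)) (.lf 0))) (.nd (.nd (.lf 0) (.nd (.lf 40) (.lf 0))) (.lf 0))) (.nd (.nd (.nd (.nd (.lf 2126) (.lf 0)) (.nd (.lf 38) (.lf 0))) (.nd (.nd (.lf 30) (.lf 0)) (.lf 0))) (.lf 0))) (.nd (.nd (.nd (.nd (.nd (.lf 2061) (.lf 45)) (.nd (.lf 3109) (.lf 0))) (.nd (.nd (.lf 29) (.lf 0)) (.lf 0))) (.lf 0)) (.nd (.nd (.nd (.nd (.lf 15) (.lf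 0)) (.nd (.lf 39) (.lf 0))) (.lf 0)) (.nd (.lf 0) (.nd (.nd (.lf 2979) (.lf 0)) (.lf 0))))))) (.nd (.nd (.nd (.nd (.nd (.nd (.nd (.lf 2) (.lf 0)) (.nd (.lf 18) (.lf 0))) (.lf 0)) (.nd (.lf 0) (.nd (.lf 0) (.nd (.lf 2142) (.lf 0))))) (.nd (.nd (.nd (.lf 0) (.nd (.lf 1044) (.lf 0))) (.lf 0)) (.nd (.lf 0) (.nd (.nd (.lf 0) (.lf 48)) (.nd (.lf 32) (.lf 0)))))) (.nd (.nd (.nd (.lf 0) (.nd (.nd (.lf 203) (.lf 43)) (.nd (.lf 27) (.lf 0)))) (.nd (.nd (.nd (.lf 7) (.lf 2983)) (.nd (.lf 23) (.lf 0))) (.lf 0))) (.nd (.nd (.nd (.nd (.lf 0) (.lf 2853)) (.lf 0)) (.nd (.nd (.lf 333) (.lf 0)) (.lf 0))) (.lf 0)))) (.lf 0)))) (.nd (.nd (.nd (.nd (.nd (.nd (.nd (.nd (.lf 0) (.nd (.lf 1) (.lf 0))) (.lf 0)) (.nd (.nd (.nd (.lf 0) (.lf 1613)) (.nd (.lf 196)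 (.lf 0))) (.nd (.nd (.lf 0) (.lf 2972)) (.lf 0)))) (.nd (.nd (.lf 0) (.nd (.nd (.lf 0) (.lf 23)) (.nd (.lf 7) (.lf 0)))) (.nd (.lf 0) (.nd (.nd (.lf 0) (.lf 31)) (.lf 0))))) (.nd (.nd (.nd (.nd (.nd (.lf 0) (.lf 1033)) (.nd (.lf 2) (.lf 0))) (.nd (.nd (.lf 0) (.lf 22)) (.nd (.lf 6) (.lf 0)))) (.lf 0)) (.nd (.nd (.nd (.nd (.lf 0) (.lf 1548)) (.lf 0)) (.lf 0)) (.nd (.nd (.nd (.lf 0) (.lf 2127)) (.lf 0)) (.nd (.nd (.lf 0) (.lf 32)) (.lf 0)))))) (.nd (.nd (.nd (.nd (.nd (.nd (.lf 1160) (.lf 0)) (.lf 0)) (.nd (.nd (.lf 20) (.lf 0)) (.lf 0))) (.nd (.nd (.nd (.lf 1613) (.lf 0)) (.lf 0)) (.nd (.lf 0) (.nd (.lf 40) (.lf 0))))) (.nd (.nd (.nd (.lf 0) (.nd (.lf 34) (.lf 0))) (.lf 0)) (.nd (.lf 0) (.nd (.nd (.lf 30) (.lf 0)) (.nd (.lf 3113) (.lf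 0)))))) (.nd (.nd (.nd (.lf 0) (.nd (.nd (.lf 21) (.lf 0)) (.lf 0))) (.nd (.nd (.nd (.lf 1742) (.lf 45)) (.nd (.lf 2787) (.lf 0))) (.lf 0))) (.nd (.nd (.nd (.nd (.lf 11) (.lf 0)) (.lf 0)) (.nd (.lf 0) (.nd (.lf 39) (.lf 0)))) (.nd (.nd (.lf 0) (.nd (.lf 2852) (.lf 0))) (.lf 0)))))) (.nd (.nd (.nd (.nd (.nd (.lf 0) (.nd (.nd (.lf 8) (.lf 40)) (.lf 0))) (.nd (.nd (.nd (.lf 196) (.lf 0)) (.lf 0)) (.nd (.nd (.lf 11) (.lf 0)) (.lf 0)))) (.nd (.nd (.nd (.nd (.lf 0) (.lf 34)) (.lf 0)) (.lf 0)) (.nd (.nd (.nd (.lf 0) (.lf 37)) (.nd (.lf 1172) (.lf 0))) (.nd (.nd (.lf 14) (.lf 0)) (.nd (.lf 1693) (.lf 0)))))) (.nd (.nd (.lf 0) (.nd (.nd (.nd (.lf 0) (.lf 36)) (.nd (.lf 1107) (.lf 0))) (.nd (.nd (.lf 0) (.lf 2861)) (.lf 0)))) (.nd (.nd (.lf 0)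 (.nd (.nd (.lf 10) (.lf 0)) (.lf 0))) (.nd (.lf 0) (.nd (.lf 0) (.nd (.lf 1758) (.lf 0))))))) (.lf 0))) (.nd (.nd (.nd (.nd (.nd (.nd (.nd (.lf 0) (.nd (.lf 136) (.lf 0))) (.lf 0)) (.nd (.nd (.lf 0) (.nd (.lf 11) (.lf 0))) (.nd (.nd (.lf 0) (.lf 39)) (.nd (.lf 15) (.lf 0))))) (.nd (.nd (.nd (.lf 0) (.nd (.lf 9) (.lf 0))) (.lf 0)) (.nd (.lf 0) (.nd (.nd (.lf 0) (.lf 2089)) (.lf 0))))) (.nd (.nd (.nd (.nd (.nd (.lf 0) (.lf 20)) (.lf 0)) (.nd (.nd (.lf 4) (.lf 1507)) (.nd (.lf 462) (.lf 0)))) (.nd (.nd (.nd (.lf 0) (.lf 28)) (.lf 0)) (.lf 0))) (.nd (.nd (.lf 0) (.nd (.nd (.lf 0) (.lf 1637)) (.lf 0))) (.nd (.nd (.nd (.lf 0) (.lf 30)) (.nd (.lf 332) (.lf 0))) (.lf 0))))) (.nd (.nd (.nd (.nd (.nd (.nd (.lf 2707) (.lf 0)) (.lf 0)) (.nd (.nd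 (.lf 35) (.lf 0)) (.lf 0))) (.nd (.nd (.nd (.lf 2972) (.lf 0)) (.lf 0)) (.nd (.nd (.lf 39) (.lf 0)) (.lf 0)))) (.nd (.nd (.nd (.nd (.lf 2837) (.lf 0)) (.lf 0)) (.nd (.nd (.lf 37) (.lf 0)) (.lf 0))) (.nd (.nd (.nd (.lf 3102) (.lf 0)) (.lf 0)) (.nd (.nd (.lf 41) (.lf 0)) (.lf 0))))) (.nd (.nd (.nd (.nd (.nd (.lf 2772) (.lf 0)) (.lf 0)) (.nd (.nd (.lf 36) (.lf 0)) (.lf 0))) (.nd (.nd (.nd (.lf 3037) (.lf 0)) (.lf 0)) (.nd (.nd (.lf 40) (.lf 0)) (.lf 0)))) (.nd (.nd (.lf 0) (.nd (.nd (.lf 38) (.lf 0)) (.lf 0))) (.nd (.nd (.nd (.lf 34) (.lf 0)) (.lf 0)) (.lf 0)))))) (.nd (.nd (.nd (.nd (.nd (.lf 0) (.nd (.nd (.lf 12) (.lf 0)) (.nd (.lf 2142) (.lf 0)))) (.nd (.nd (.nd (.lf 0) (.lf 40)) (.lf 0)) (.nd (.nd (.lf 15) (.lf 0)) (.lf 0)))) (.nd (.nd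 (.nd (.nd (.lf 0) (.lf 38)) (.lf 0)) (.nd (.nd (.lf 14) (.lf 3053)) (.lf 0))) (.nd (.nd (.nd (.lf 0) (.lf 41)) (.nd (.lf 2012) (.lf 0))) (.lf 0)))) (.nd (.nd (.nd (.nd (.nd (.lf 388) (.lf 36)) (.nd (.lf 1685) (.lf 0))) (.lf 0)) (.lf 0)) (.nd (.lf 0) (.nd (.nd (.nd (.lf 10) (.lf 0)) (.lf 0)) (.nd (.nd (.lf 1555) (.lf 0)) (.lf 0)))))) (.lf 0))))) (.nd (.nd (.nd (.nd (.nd (.nd (.nd (.nd (.lf 0) (.nd (.nd (.lf 0) (.lf 2126)) (.lf 0))) (.nd (.lf 0) (.nd (.nd (.lf 0) (.lf 2837)) (.lf 0)))) (.nd (.nd (.nd (.nd (.lf 0) (.lf 1032)) (.lf 0)) (.nd (.nd (.lf 0) (.lf 18)) (.lf 0))) (.nd (.nd (.nd (.lf 0) (.lf 1611)) (.nd (.lf 2) (.lf 0))) (.nd (.nd (.lf 0) (.lf 26)) (.nd (.lf 6) (.lf 0)))))) (.nd (.nd (.nd (.lf 0) (.nd (.nd (.lf 0) (.lf 17)) (.lf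 0))) (.nd (.nd (.nd (.lf 0) (.lf 1546)) (.nd (.lf 1) (.lf 0))) (.lf 0))) (.nd (.nd (.lf 0) (.nd (.lf 0) (.nd (.lf 324) (.lf 0)))) (.nd (.lf 0) (.nd (.nd (.lf 0) (.lf 27)) (.nd (.lf 7) (.lf 0))))))) (.nd (.nd (.nd (.nd (.nd (.nd (.lf 0) (.lf 2985)) (.lf 0)) (.lf 0)) (.nd (.nd (.lf 0) (.nd (.lf 34) (.lf 0))) (.nd (.lf 0) (.nd (.lf 38) (.lf 0))))) (.nd (.nd (.nd (.nd (.lf 1032) (.lf 0)) (.lf 0)) (.nd (.nd (.lf 20) (.lf 0)) (.nd (.lf 2789) (.lf 0)))) (.nd (.nd (.nd (.lf 1485) (.lf 0)) (.lf 0)) (.nd (.nd (.lf 28) (.lf 0)) (.lf 0))))) (.nd (.nd (.nd (.lf 0) (.nd (.nd (.lf 19) (.lf 0)) (.nd (.lf 2724) (.lf 0)))) (.nd (.nd (.nd (.lf 1420) (.lf 0)) (.lf 0)) (.nd (.lf 0) (.nd (.lf 39) (.lf 0))))) (.nd (.nd (.nd (.nd (.lf 9) (.lf 0)) (.lf 0)) (.lf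 0)) (.nd (.nd (.nd (.lf 0) (.lf 45)) (.lf 0)) (.lf 0)))))) (.nd (.nd (.nd (.nd (.nd (.nd (.nd (.lf 0) (.lf 1565)) (.lf 0)) (.nd (.nd (.lf 0) (.lf 38)) (.nd (.lf 1044) (.lf 0)))) (.nd (.nd (.nd (.lf 0) (.lf 34)) (.lf 0)) (.nd (.nd (.lf 9) (.lf 0)) (.lf 0)))) (.nd (.nd (.lf 0) (.nd (.nd (.lf 8) (.lf 0)) (.nd (.lf 1109) (.lf 0)))) (.nd (.nd (.nd (.lf 68) (.lf 35)) (.lf 0)) (.nd (.nd (.lf 12) (.lf 0)) (.lf 0))))) (.nd (.nd (.lf 0) (.nd (.lf 0) (.nd (.nd (.lf 10) (.lf 0)) (.lf 0)))) (.nd (.lf 0) (.nd (.nd (.nd (.lf 0) (.lf 36)) (.lf 0)) (.nd (.nd (.lf 0) (.lf 2733)) (.nd (.lf 1436) (.lf 0))))))) (.lf 0))) (.nd (.nd (.nd (.nd (.nd (.nd (.lf 0) (.nd (.nd (.lf 0) (.lf 30)) (.lf 0))) (.nd (.lf 0) (.nd (.nd (.lf 0) (.lf 37)) (.nd (.lf 14) (.lf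 0))))) (.nd (.nd (.nd (.nd (.lf 0) (.lf 20)) (.nd (.lf 8) (.lf 0))) (.lf 0)) (.nd (.lf 0) (.nd (.nd (.lf 0) (.lf 1768)) (.nd (.lf 463) (.lf 0)))))) (.nd (.nd (.nd (.lf 0) (.nd (.nd (.lf 0) (.lf 1186)) (.lf 0))) (.nd (.nd (.lf 0) (.nd (.lf 137) (.lf 0))) (.nd (.nd (.lf 0) (.lf 1639)) (.lf 0)))) (.nd (.nd (.nd (.nd (.lf 0) (.lf 21)) (.lf 0)) (.nd (.nd (.lf 4) (.lf 0)) (.nd (.lf 13) (.lf 0)))) (.nd (.nd (.lf 0) (.nd (.lf 202) (.lf 0))) (.lf 0))))) (.nd (.nd (.nd (.nd (.nd (.nd (.lf 16) (.lf 48)) (.lf 0)) (.lf 0)) (.nd (.nd (.nd (.lf 23) (.lf 0)) (.lf 0)) (.nd (.lf 0) (.nd (.lf 3053) (.lf 0))))) (.nd (.nd (.nd (.nd (.lf 18) (.lf 0)) (.lf 0)) (.lf 0)) (.nd (.nd (.nd (.lf 25) (.lf 0)) (.lf 0)) (.nd (.nd (.lf 2087) (.lf 0)) (.nd (.lf 46) (.lf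 0)))))) (.nd (.nd (.nd (.lf 0) (.nd (.nd (.lf 1122) (.lf 0)) (.nd (.lf 44) (.lf 0)))) (.nd (.lf 0) (.nd (.nd (.lf 1765) (.lf 0)) (.lf 0)))) (.nd (.nd (.nd (.nd (.lf 148) (.lf 0)) (.lf 0)) (.nd (.nd (.lf 1443) (.lf 0)) (.lf 0))) (.nd (.nd (.lf 0) (.nd (.lf 42) (.lf 0))) (.lf 0)))))) (.nd (.nd (.nd (.nd (.nd (.nd (.nd (.lf 3) (.lf 0)) (.lf 0)) (.nd (.nd (.lf 139) (.lf 0)) (.lf 0))) (.nd (.nd (.nd (.lf 7) (.lf 0)) (.lf 0)) (.lf 0))) (.nd (.nd (.nd (.nd (.lf 0) (.lf 2789)) (.nd (.lf 1109) (.lf 0))) (.lf 0)) (.nd (.nd (.lf 0) (.nd (.lf 25) (.lf 0))) (.nd (.lf 0) (.nd (.lf 33) (.lf 0)))))) (.nd (.nd (.nd (.lf 0) (.nd (.nd (.lf 0) (.lf 44)) (.lf 0))) (.nd (.nd (.nd (.lf 0) (.lf 3048)) (.lf 0)) (.nd (.nd (.lf 0) (.lf 48)) (.lf 0)))) (.nd (.nd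 (.lf 0) (.nd (.nd (.lf 398) (.lf 0)) (.nd (.lf 2078) (.lf 0)))) (.nd (.nd (.lf 0) (.nd (.lf 26) (.lf 0))) (.nd (.nd (.lf 18) (.lf 0)) (.lf 0)))))) (.lf 0)))) (.nd (.nd (.nd (.nd (.nd (.nd (.nd (.nd (.lf 0) (.nd (.lf 3) (.lf 0))) (.lf 0)) (.nd (.lf 0) (.nd (.nd (.lf 0) (.lf 3102)) (.lf 0)))) (.nd (.nd (.nd (.nd (.lf 0) (.lf 1485)) (.nd (.lf 68) (.lf 0))) (.nd (.nd (.lf 0) (.lf 25)) (.lf 0))) (.nd (.lf 0) (.nd (.nd (.lf 0) (.lf 33)) (.lf 0))))) (.nd (.nd (.nd (.nd (.nd (.lf 0) (.lf 1163)) (.lf 0)) (.lf 0)) (.nd (.nd (.nd (.lf 0) (.lf 1999)) (.nd (.lf 5) (.lf 0))) (.nd (.nd (.lf 0) (.lf 32)) (.lf 0)))) (.nd (.nd (.nd (.nd (.lf 0) (.lf 1678)) (.lf 0)) (.nd (.nd (.lf 0) (.lf 27)) (.lf 0))) (.nd (.nd (.lf 0) (.nd (.lf 6) (.lf 0))) (.nd (.nd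 (.lf 2) (.lf 0)) (.lf 0)))))) (.nd (.nd (.nd (.nd (.nd (.nd (.lf 1481) (.lf 0)) (.nd (.lf 2786) (.lf 0))) (.lf 0)) (.nd (.nd (.lf 0) (.nd (.lf 37) (.lf 0))) (.nd (.lf 0) (.nd (.lf 41) (.lf 0))))) (.nd (.nd (.nd (.nd (.lf 1611) (.lf 0)) (.nd (.lf 35) (.lf 0))) (.lf 0)) (.lf 0))) (.nd (.nd (.nd (.lf 0) (.nd (.lf 0) (.nd (.lf 3112) (.lf 0)))) (.nd (.nd (.nd (.lf 2063) (.lf 0)) (.lf 0)) (.nd (.nd (.lf 30) (.lf 0)) (.lf 0)))) (.nd (.nd (.nd (.nd (.lf 13) (.lf 45)) (.lf 0)) (.nd (.nd (.lf 28) (.lf 0)) (.lf 0))) (.nd (.nd (.nd (.lf 20) (.lf 0)) (.nd (.lf 2982) (.lf 0))) (.lf 0)))))) (.nd (.nd (.nd (.nd (.nd (.nd (.nd (.lf 0) (.lf 32)) (.nd (.lf 16) (.lf 0))) (.lf 0)) (.nd (.nd (.lf 0) (.nd (.lf 1172) (.lf 0))) (.nd (.lf 0) (.nd (.lf 2012) (.lf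 0))))) (.nd (.nd (.nd (.nd (.lf 2) (.lf 0)) (.lf 0)) (.nd (.lf 0) (.nd (.lf 25) (.lf 0)))) (.nd (.lf 0) (.nd (.nd (.lf 0) (.lf 46)) (.lf 0))))) (.nd (.nd (.nd (.lf 0) (.nd (.nd (.lf 73) (.lf 0)) (.lf 0))) (.nd (.nd (.nd (.lf 5) (.lf 0)) (.lf 0)) (.nd (.nd (.lf 461) (.lf 0)) (.lf 0)))) (.nd (.nd (.nd (.nd (.lf 0) (.lf 2723)) (.lf 0)) (.nd (.nd (.lf 0) (.lf 43)) (.lf 0))) (.nd (.nd (.nd (.lf 0) (.lf 3111)) (.nd (.lf 22) (.lf 0))) (.lf 0))))) (.lf 0))) (.nd (.nd (.nd (.nd (.nd (.nd (.nd (.lf 0) (.nd (.lf 394) (.lf 0))) (.lf 0)) (.nd (.nd (.nd (.lf 0) (.lf 30)) (.nd (.lf 14) (.lf 0))) (.nd (.nd (.lf 0) (.lf 41)) (.lf 0)))) (.nd (.nd (.nd (.nd (.lf 0) (.lf 28)) (.nd (.lf 12) (.lf 0))) (.nd (.nd (.lf 0) (.lf 2087)) (.lf 0))) (.lf 0))) (.nd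 (.nd (.nd (.nd (.lf 0) (.nd (.lf 459) (.lf 0))) (.nd (.nd (.lf 0) (.lf 2022)) (.lf 0))) (.lf 0)) (.nd (.nd (.nd (.nd (.lf 0) (.lf 29)) (.nd (.lf 13) (.lf 0))) (.nd (.nd (.lf 0) (.lf 2152)) (.lf 0))) (.nd (.nd (.nd (.lf 4) (.lf 0)) (.lf 0)) (.nd (.nd (.lf 329) (.lf 0)) (.lf 0)))))) (.nd (.nd (.nd (.nd (.nd (.nd (.lf 24) (.lf 0)) (.lf 0)) (.nd (.nd (.lf 1446) (.lf 0)) (.nd (.lf 48) (.lf 0)))) (.nd (.nd (.nd (.lf 31) (.lf 0)) (.lf 0)) (.nd (.nd (.lf 2089) (.lf 0)) (.lf 0)))) (.nd (.nd (.nd (.nd (.lf 26) (.lf 0)) (.lf 0)) (.nd (.nd (.lf 1768) (.lf 0)) (.lf 0))) (.nd (.nd (.nd (.lf 33) (.lf 0)) (.nd (.lf 46) (.lf 0))) (.lf 0)))) (.nd (.nd (.nd (.nd (.lf 0) (.nd (.lf 44) (.lf 0))) (.lf 0)) (.lf 0)) (.nd (.nd (.nd (.nd (.lf 413) (.lf 0)) (.nd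 (.lf 2797) (.lf 0))) (.lf 0)) (.nd (.nd (.nd (.lf 1124) (.lf 0)) (.lf 0)) (.nd (.nd (.lf 42) (.lf 0)) (.lf 0))))))) (.nd (.nd (.nd (.nd (.nd (.nd (.lf 0) (.nd (.lf 24) (.lf 0))) (.nd (.lf 0) (.nd (.lf 32) (.lf 0)))) (.nd (.nd (.nd (.lf 0) (.lf 3113)) (.nd (.lf 1693) (.lf 0))) (.lf 0))) (.nd (.nd (.nd (.nd (.lf 6) (.lf 0)) (.lf 0)) (.nd (.nd (.lf 463) (.lf 46)) (.nd (.lf 33) (.lf 0)))) (.lf 0))) (.nd (.nd (.nd (.nd (.nd (.lf 5) (.lf 2726)) (.lf 0)) (.lf 0)) (.lf 0)) (.nd (.nd (.nd (.lf 0) (.nd (.lf 1500) (.lf 0))) (.nd (.nd (.lf 0) (.lf 47)) (.lf 0))) (.nd (.nd (.nd (.lf 76) (.lf 0)) (.lf 0)) (.nd (.nd (.lf 22) (.lf 0)) (.lf 0)))))) (.lf 0)))))) (.nd (.nd (.nd (.nd (.nd (.nd (.nd (.nd (.nd (.nd (.nd (.lf 0) (.lf 7)) (.lf 0)) (.nd (.nd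 (.lf 0) (.lf 2061)) (.lf 0))) (.nd (.lf 0) (.nd (.nd (.lf 0) (.lf 2772)) (.nd (.lf 388) (.lf 0))))) (.nd (.lf 0) (.nd (.lf 0) (.nd (.lf 0) (.nd (.lf 5) (.lf 0)))))) (.nd (.nd (.nd (.lf 0) (.nd (.nd (.lf 0) (.lf 16)) (.nd (.lf 3) (.lf 0)))) (.nd (.nd (.nd (.lf 0) (.lf 1417)) (.lf 0)) (.nd (.nd (.lf 0) (.lf 23)) (.lf 0)))) (.nd (.nd (.nd (.nd (.lf 0) (.lf 1096)) (.lf 0)) (.nd (.nd (.lf 0) (.lf 18)) (.lf 0))) (.nd (.nd (.nd (.lf 0) (.lf 1739)) (.nd (.lf 1) (.lf 0))) (.nd (.nd (.lf 0) (.lf 25)) (.lf 0)))))) (.nd (.nd (.nd (.nd (.nd (.nd (.lf 0) (.lf 2856)) (.lf 0)) (.nd (.nd (.lf 0) (.lf 45)) (.lf 0))) (.nd (.nd (.nd (.lf 1033) (.lf 0)) (.lf 0)) (.nd (.nd (.lf 20) (.lf 0)) (.nd (.lf 36) (.lf 0))))) (.nd (.lf 0) (.nd (.nd (.nd (.lf 1163)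 (.lf 0)) (.lf 0)) (.nd (.lf 0) (.nd (.lf 2726) (.lf 0)))))) (.nd (.nd (.lf 0) (.nd (.nd (.nd (.lf 1098) (.lf 0)) (.lf 0)) (.nd (.nd (.lf 21) (.lf 0)) (.nd (.lf 37) (.lf 0))))) (.nd (.nd (.nd (.nd (.lf 8) (.lf 0)) (.lf 0)) (.nd (.nd (.lf 19) (.lf 0)) (.nd (.lf 35) (.lf 0)))) (.nd (.lf 0) (.nd (.lf 0) (.nd (.lf 2791) (.lf 0)))))))) (.nd (.nd (.nd (.nd (.nd (.nd (.nd (.lf 0) (.lf 27)) (.lf 0)) (.nd (.nd (.lf 0) (.lf 3109)) (.lf 0))) (.nd (.nd (.nd (.lf 2) (.lf 0)) (.lf 0)) (.nd (.lf 0) (.nd (.lf 1685) (.lf 0))))) (.nd (.lf 0) (.nd (.lf 0) (.nd (.nd (.lf 459) (.lf 44)) (.lf 0))))) (.nd (.nd (.lf 0) (.nd (.nd (.nd (.lf 3) (.lf 2722)) (.nd (.lf 16) (.lf 0))) (.nd (.nd (.lf 0) (.lf 43)) (.lf 0)))) (.nd (.nd (.lf 0) (.nd (.nd (.lf 72) (.lf 0))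 (.nd (.lf 1492) (.lf 0)))) (.nd (.nd (.lf 0) (.nd (.lf 17) (.lf 0))) (.nd (.lf 0) (.nd (.lf 25) (.lf 0))))))) (.lf 0))) (.nd (.nd (.nd (.nd (.nd (.nd (.lf 0) (.nd (.nd (.lf 0) (.lf 29)) (.nd (.lf 203) (.lf 0)))) (.nd (.nd (.nd (.lf 0) (.lf 21)) (.lf 0)) (.nd (.nd (.lf 4) (.lf 36)) (.lf 0)))) (.nd (.nd (.nd (.nd (.lf 0) (.lf 19)) (.lf 0)) (.nd (.nd (.lf 0) (.lf 1122)) (.lf 0))) (.nd (.nd (.lf 0) (.nd (.lf 73) (.lf 0))) (.lf 0)))) (.nd (.nd (.lf 0) (.nd (.lf 0) (.nd (.nd (.lf 0) (.lf 1574)) (.nd (.lf 14) (.lf 0))))) (.nd (.nd (.nd (.lf 0) (.nd (.lf 8) (.lf 0))) (.nd (.lf 0) (.nd (.lf 12) (.lf 0)))) (.nd (.lf 0) (.nd (.nd (.lf 0) (.lf 1704)) (.nd (.lf 399) (.lf 0))))))) (.nd (.nd (.nd (.nd (.nd (.nd (.lf 0) (.lf 47)) (.lf 0)) (.nd (.lf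 0) (.nd (.lf 43) (.lf 0)))) (.nd (.nd (.nd (.lf 22) (.lf 0)) (.lf 0)) (.nd (.nd (.lf 1507) (.lf 0)) (.lf 0)))) (.nd (.nd (.nd (.nd (.lf 17) (.lf 0)) (.lf 0)) (.nd (.nd (.lf 1186) (.lf 0)) (.nd (.lf 44) (.lf 0)))) (.nd (.lf 0) (.nd (.nd (.lf 2022) (.lf 0)) (.lf 0))))) (.nd (.nd (.nd (.nd (.nd (.lf 16) (.lf 0)) (.lf 0)) (.lf 0)) (.nd (.nd (.nd (.lf 24) (.lf 0)) (.lf 0)) (.nd (.nd (.lf 1700) (.lf 0)) (.nd (.lf 3117) (.lf 0))))) (.nd (.nd (.nd (.nd (.lf 83) (.lf 0)) (.lf 0)) (.lf 0)) (.nd (.lf 0) (.nd (.lf 0) (.nd (.lf 46) (.lf 0)))))))) (.nd (.nd (.nd (.nd (.nd (.lf 0) (.nd (.nd (.lf 74) (.lf 0)) (.nd (.lf 27) (.lf 0)))) (.nd (.nd (.nd (.lf 6) (.lf 0)) (.lf 0)) (.nd (.nd (.lf 462) (.lf 0)) (.lf 0)))) (.nd (.nd (.nd (.nd (.lf 0) (.lf 2724))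 (.lf 0)) (.nd (.nd (.lf 0) (.lf 44)) (.lf 0))) (.nd (.nd (.nd (.lf 0) (.lf 3112)) (.lf 0)) (.lf 0)))) (.nd (.nd (.nd (.nd (.nd (.lf 3) (.lf 0)) (.lf 0)) (.lf 0)) (.nd (.nd (.lf 0) (.nd (.lf 24) (.lf 0))) (.nd (.nd (.lf 0) (.lf 47)) (.lf 0)))) (.nd (.nd (.nd (.lf 0) (.nd (.lf 1173) (.lf 0))) (.nd (.lf 0) (.nd (.lf 2013) (.lf 0)))) (.nd (.lf 0) (.nd (.nd (.lf 17) (.lf 0)) (.nd (.lf 33) (.lf 0))))))) (.lf 0)))) (.nd (.nd (.nd (.nd (.nd (.nd (.nd (.lf 0) (.nd (.lf 0) (.nd (.lf 7) (.lf 0)))) (.nd (.nd (.nd (.lf 0) (.lf 1742)) (.lf 0)) (.nd (.nd (.lf 0) (.lf 3037)) (.lf 0)))) (.nd (.nd (.nd (.nd (.lf 0) (.lf 1420)) (.lf 0)) (.lf 0)) (.nd (.nd (.nd (.lf 0) (.lf 2063)) (.nd (.lf 5) (.lf 0))) (.lf 0)))) (.nd (.nd (.nd (.nd (.nd (.lf 0) (.lf 1098))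 (.nd (.lf 3) (.lf 0))) (.nd (.nd (.lf 0) (.lf 24)) (.lf 0))) (.nd (.lf 0) (.nd (.nd (.lf 0) (.lf 31)) (.lf 0)))) (.nd (.nd (.nd (.lf 0) (.nd (.lf 132) (.lf 0))) (.nd (.nd (.lf 0) (.lf 26)) (.lf 0))) (.nd (.lf 0) (.nd (.nd (.lf 1) (.lf 33)) (.lf 0)))))) (.nd (.nd (.nd (.nd (.lf 0) (.nd (.lf 0) (.nd (.lf 2983) (.lf 0)))) (.nd (.nd (.nd (.lf 0) (.lf 45)) (.nd (.lf 36) (.lf 0))) (.nd (.nd (.lf 28) (.lf 0)) (.lf 0)))) (.nd (.nd (.nd (.nd (.lf 1546) (.lf 0)) (.lf 0)) (.nd (.lf 0) (.nd (.lf 3048) (.lf 0)))) (.nd (.nd (.nd (.lf 1999) (.lf 0)) (.lf 0)) (.lf 0)))) (.nd (.nd (.nd (.nd (.nd (.lf 1417) (.lf 0)) (.nd (.lf 2722) (.lf 0))) (.lf 0)) (.nd (.lf 0) (.nd (.nd (.lf 29) (.lf 0)) (.nd (.lf 41) (.lf 0))))) (.nd (.nd (.nd (.nd (.lf 12) (.lf 0))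 (.nd (.lf 35) (.lf 0))) (.lf 0)) (.nd (.nd (.nd (.lf 19) (.lf 0)) (.lf 0)) (.lf 0)))))) (.nd (.nd (.nd (.nd (.nd (.nd (.nd (.lf 0) (.lf 31)) (.lf 0)) (.nd (.lf 0) (.nd (.lf 23) (.lf 0)))) (.nd (.nd (.nd (.lf 0) (.lf 2787)) (.nd (.lf 1107) (.lf 0))) (.lf 0))) (.nd (.nd (.nd (.nd (.lf 1) (.lf 0)) (.lf 0)) (.nd (.nd (.lf 137) (.lf 0)) (.lf 0))) (.nd (.nd (.nd (.lf 5) (.lf 0)) (.lf 0)) (.lf 0)))) (.nd (.nd (.nd (.nd (.lf 0) (.nd (.lf 16) (.lf 0))) (.nd (.lf 0) (.nd (.lf 24) (.lf 0)))) (.nd (.lf 0) (.nd (.nd (.lf 396) (.lf 0)) (.nd (.lf 2076) (.lf 0))))) (.nd (.nd (.lf 0) (.nd (.nd (.lf 0) (.lf 42)) (.lf 0))) (.nd (.nd (.nd (.lf 0) (.lf 3046)) (.lf 0)) (.nd (.nd (.lf 0) (.lf 46)) (.lf 0)))))) (.lf 0))) (.nd (.nd (.nd (.nd (.nd (.nd (.lf 0)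 (.nd (.nd (.lf 4) (.lf 0)) (.lf 0))) (.nd (.lf 0) (.nd (.nd (.lf 0) (.lf 40)) (.lf 0)))) (.nd (.nd (.nd (.lf 0) (.nd (.lf 10) (.lf 0))) (.nd (.nd (.lf 0) (.lf 1765)) (.lf 0))) (.nd (.nd (.nd (.lf 0) (.lf 30)) (.nd (.lf 461) (.lf 0))) (.lf 0)))) (.nd (.nd (.nd (.nd (.nd (.lf 0) (.lf 21)) (.lf 0)) (.nd (.nd (.lf 0) (.lf 1700)) (.lf 0))) (.nd (.nd (.nd (.lf 0) (.lf 29)) (.nd (.lf 396) (.lf 0))) (.nd (.nd (.lf 0) (.lf 2153)) (.lf 0)))) (.nd (.nd (.nd (.lf 0) (.nd (.lf 11) (.lf 0))) (.nd (.lf 0) (.nd (.lf 15) (.lf 0)))) (.nd (.lf 0) (.nd (.nd (.lf 200) (.lf 0)) (.lf 0)))))) (.nd (.nd (.nd (.nd (.nd (.nd (.lf 22) (.lf 0)) (.nd (.lf 42) (.lf 0))) (.lf 0)) (.nd (.nd (.lf 0) (.nd (.lf 2861) (.lf 0))) (.lf 0))) (.nd (.nd (.lf 0) (.nd (.nd (.lf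 1639) (.lf 0)) (.nd (.lf 48) (.lf 0)))) (.nd (.nd (.nd (.lf 32) (.lf 0)) (.lf 0)) (.lf 0)))) (.nd (.nd (.nd (.nd (.nd (.lf 23) (.lf 0)) (.nd (.lf 43) (.lf 0))) (.nd (.nd (.lf 1574) (.lf 0)) (.nd (.lf 47) (.lf 0)))) (.nd (.nd (.nd (.lf 31) (.lf 0)) (.lf 0)) (.nd (.nd (.lf 2153) (.lf 0)) (.lf 0)))) (.nd (.nd (.nd (.nd (.lf 348) (.lf 0)) (.lf 0)) (.lf 0)) (.nd (.nd (.nd (.lf 1059) (.lf 0)) (.lf 0)) (.lf 0)))))) (.nd (.nd (.nd (.nd (.nd (.nd (.nd (.lf 452) (.lf 0)) (.nd (.lf 1749) (.lf 0))) (.nd (.nd (.lf 13) (.lf 0)) (.lf 0))) (.lf 0)) (.nd (.nd (.nd (.nd (.lf 0) (.lf 39)) (.lf 0)) (.lf 0)) (.lf 0))) (.nd (.nd (.nd (.nd (.nd (.lf 0) (.lf 37)) (.lf 0)) (.nd (.nd (.lf 14) (.lf 3117)) (.lf 0))) (.nd (.nd (.nd (.lf 0) (.lf 41)) (.nd (.lf 2076)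 (.lf 0))) (.lf 0))) (.nd (.nd (.nd (.nd (.lf 0) (.lf 40)) (.lf 0)) (.nd (.nd (.lf 15) (.lf 0)) (.lf 0))) (.nd (.nd (.nd (.lf 11) (.lf 0)) (.nd (.lf 2141) (.lf 0))) (.nd (.nd (.lf 1620) (.lf 0)) (.lf 0)))))) (.lf 0))))) (.nd (.nd (.nd (.nd (.nd (.nd (.nd (.nd (.lf 0) (.nd (.nd (.lf 0) (.lf 15)) (.lf 0))) (.nd (.nd (.nd (.lf 0) (.lf 11)) (.lf 0)) (.lf 0))) (.nd (.nd (.nd (.nd (.lf 0) (.lf 9)) (.lf 0)) (.nd (.nd (.lf 0) (.lf 148)) (.lf 0))) (.nd (.nd (.nd (.lf 0) (.lf 13)) (.lf 0)) (.nd (.nd (.lf 0) (.lf 413)) (.lf 0))))) (.nd (.nd (.nd (.nd (.nd (.lf 0) (.lf 8)) (.lf 0)) (.nd (.nd (.lf 0) (.lf 83)) (.lf 0))) (.nd (.nd (.nd (.lf 0) (.lf 12)) (.lf 0)) (.nd (.nd (.lf 0) (.lf 348)) (.lf 0)))) (.nd (.nd (.nd (.nd (.lf 0) (.lf 10)) (.lf 0))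 (.nd (.nd (.lf 0) (.lf 213)) (.lf 0))) (.nd (.nd (.nd (.lf 0) (.lf 14)) (.lf 0)) (.nd (.nd (.lf 0) (.lf 478)) (.lf 0)))))) (.nd (.nd (.nd (.nd (.lf 0) (.nd (.nd (.lf 19) (.lf 0)) (.nd (.lf 2853) (.lf 0)))) (.nd (.nd (.nd (.lf 1548) (.lf 0)) (.lf 0)) (.lf 0))) (.nd (.nd (.lf 0) (.nd (.nd (.lf 21) (.lf 0)) (.lf 0))) (.nd (.nd (.nd (.lf 1678) (.lf 45)) (.nd (.lf 2723) (.lf 0))) (.nd (.nd (.lf 29) (.lf 0)) (.lf 0))))) (.nd (.nd (.nd (.nd (.nd (.lf 1096) (.lf 0)) (.lf 0)) (.lf 0)) (.nd (.lf 0) (.nd (.lf 0) (.nd (.lf 40) (.lf 0))))) (.nd (.nd (.nd (.nd (.lf 10) (.lf 0)) (.nd (.lf 34) (.lf 0))) (.nd (.lf 0) (.nd (.lf 38) (.lf 0)))) (.nd (.lf 0) (.nd (.lf 0) (.nd (.lf 3049) (.lf 0)))))))) (.nd (.nd (.nd (.nd (.nd (.nd (.nd (.lf 0) (.lf 1630))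 (.lf 0)) (.nd (.nd (.lf 0) (.lf 39)) (.lf 0))) (.lf 0)) (.nd (.lf 0) (.nd (.lf 0) (.nd (.nd (.lf 13) (.lf 2797)) (.nd (.lf 1500) (.lf 0)))))) (.nd (.nd (.nd (.lf 0) (.nd (.nd (.lf 8) (.lf 0)) (.nd (.lf 1173) (.lf 0)))) (.nd (.nd (.nd (.lf 132) (.lf 35)) (.lf 0)) (.nd (.nd (.lf 11) (.lf 0)) (.lf 0)))) (.nd (.nd (.nd (.nd (.lf 0) (.lf 34)) (.lf 0)) (.nd (.nd (.lf 9) (.lf 0)) (.lf 0))) (.nd (.nd (.nd (.lf 0) (.lf 37)) (.nd (.lf 1043) (.lf 0))) (.lf 0))))) (.lf 0))) (.nd (.nd (.nd (.nd (.nd (.nd (.lf 0) (.nd (.lf 0) (.nd (.lf 333) (.lf 0)))) (.nd (.nd (.lf 0) (.nd (.lf 10) (.lf 0))) (.nd (.nd (.lf 0) (.lf 38)) (.lf 0)))) (.nd (.nd (.lf 0) (.nd (.nd (.lf 4) (.lf 1443)) (.nd (.lf 398) (.lf 0)))) (.nd (.nd (.nd (.lf 0) (.lf 28)) (.lf 0)) (.lf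 0)))) (.nd (.nd (.nd (.nd (.nd (.lf 0) (.lf 19)) (.nd (.lf 72) (.lf 0))) (.lf 0)) (.nd (.lf 0) (.nd (.lf 0) (.nd (.lf 15) (.lf 0))))) (.nd (.nd (.nd (.lf 0) (.nd (.lf 9) (.lf 0))) (.nd (.nd (.lf 0) (.lf 1572)) (.lf 0))) (.nd (.nd (.nd (.lf 0) (.lf 29)) (.lf 0)) (.nd (.nd (.lf 0) (.lf 2025)) (.lf 0)))))) (.nd (.nd (.nd (.nd (.nd (.nd (.lf 17) (.lf 0)) (.lf 0)) (.nd (.nd (.lf 1058) (.lf 0)) (.lf 0))) (.nd (.lf 0) (.nd (.nd (.lf 1637) (.lf 0)) (.lf 0)))) (.nd (.lf 0) (.nd (.nd (.nd (.lf 27) (.lf 0)) (.nd (.lf 43) (.lf 0))) (.nd (.nd (.lf 2152) (.lf 0)) (.nd (.lf 47) (.lf 0)))))) (.nd (.nd (.nd (.nd (.nd (.lf 18) (.lf 0)) (.lf 0)) (.lf 0)) (.nd (.nd (.nd (.lf 26) (.lf 0)) (.nd (.lf 42) (.lf 0))) (.lf 0))) (.nd (.nd (.nd (.nd (.lf 213) (.lf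 0)) (.lf 0)) (.nd (.nd (.lf 1572) (.lf 0)) (.nd (.lf 2989) (.lf 0)))) (.nd (.lf 0) (.nd (.lf 0) (.nd (.lf 48) (.lf 0)))))))) (.nd (.nd (.nd (.nd (.nd (.nd (.lf 0) (.nd (.lf 1427) (.lf 0))) (.lf 0)) (.nd (.nd (.nd (.lf 0) (.lf 39)) (.lf 0)) (.lf 0))) (.nd (.nd (.nd (.nd (.lf 324) (.lf 0)) (.lf 0)) (.nd (.nd (.lf 13) (.lf 0)) (.nd (.lf 2078) (.lf 0)))) (.lf 0))) (.nd (.nd (.nd (.nd (.nd (.lf 0) (.lf 35)) (.nd (.lf 1492) (.lf 0))) (.nd (.nd (.lf 12) (.lf 0)) (.nd (.lf 2013) (.lf 0)))) (.nd (.lf 0) (.nd (.nd (.lf 15) (.lf 0)) (.lf 0)))) (.nd (.nd (.nd (.nd (.lf 0) (.lf 38)) (.lf 0)) (.nd (.nd (.lf 0) (.lf 2989)) (.lf 0))) (.nd (.nd (.nd (.lf 9) (.lf 41)) (.lf 0)) (.lf 0))))) (.lf 0)))) (.nd (.nd (.nd (.nd (.nd (.nd (.nd (.nd (.nd (.lf 0)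 (.lf 206)) (.lf 0)) (.lf 0)) (.nd (.lf 0) (.nd (.nd (.lf 0) (.lf 34)) (.nd (.lf 10) (.lf 0))))) (.nd (.lf 0) (.nd (.nd (.nd (.lf 0) (.lf 20)) (.lf 0)) (.nd (.nd (.lf 4) (.lf 1124)) (.nd (.lf 76) (.lf 0)))))) (.nd (.nd (.lf 0) (.nd (.nd (.nd (.lf 0) (.lf 19)) (.lf 0)) (.nd (.nd (.lf 0) (.lf 1059)) (.nd (.lf 11) (.lf 0))))) (.nd (.nd (.lf 0) (.nd (.lf 0) (.nd (.lf 9) (.lf 0)))) (.nd (.nd (.nd (.lf 0) (.lf 21)) (.lf 0)) (.nd (.nd (.lf 0) (.lf 1189)) (.nd (.lf 141) (.lf 0))))))) (.nd (.nd (.nd (.nd (.nd (.nd (.lf 1674) (.lf 0)) (.lf 0)) (.lf 0)) (.nd (.nd (.nd (.lf 2127) (.lf 0)) (.lf 0)) (.nd (.nd (.lf 30) (.lf 0)) (.lf 0)))) (.nd (.nd (.nd (.nd (.lf 0) (.lf 45)) (.nd (.lf 36) (.lf 0))) (.lf 0)) (.nd (.nd (.lf 0) (.nd (.lf 3111) (.lf 0)))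 (.lf 0)))) (.nd (.nd (.nd (.nd (.nd (.lf 1739) (.lf 0)) (.lf 0)) (.lf 0)) (.nd (.nd (.lf 0) (.nd (.lf 3046) (.lf 0))) (.lf 0))) (.nd (.nd (.nd (.nd (.lf 14) (.lf 0)) (.nd (.lf 37) (.lf 0))) (.nd (.nd (.lf 29) (.lf 0)) (.nd (.lf 41) (.lf 0)))) (.nd (.nd (.nd (.lf 21) (.lf 0)) (.lf 0)) (.nd (.nd (.lf 2850) (.lf 0)) (.lf 0))))))) (.nd (.nd (.nd (.nd (.lf 0) (.nd (.nd (.nd (.lf 0) (.lf 2852)) (.lf 0)) (.nd (.nd (.lf 332) (.lf 0)) (.lf 0)))) (.nd (.nd (.lf 0) (.nd (.nd (.lf 202) (.lf 42)) (.nd (.lf 26) (.lf 0)))) (.nd (.nd (.nd (.lf 6) (.lf 2982)) (.nd (.lf 22) (.lf 0))) (.lf 0)))) (.nd (.nd (.nd (.nd (.nd (.lf 1) (.lf 0)) (.nd (.lf 17) (.lf 0))) (.lf 0)) (.nd (.lf 0) (.nd (.lf 0) (.nd (.lf 2141) (.lf 0))))) (.nd (.nd (.nd (.lf 0) (.nd (.lf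 1043) (.lf 0))) (.lf 0)) (.nd (.lf 0) (.nd (.nd (.lf 0) (.lf 47)) (.nd (.lf 31) (.lf 0))))))) (.lf 0))) (.nd (.nd (.nd (.nd (.nd (.nd (.lf 0) (.nd (.nd (.lf 0) (.lf 2979)) (.lf 0))) (.nd (.lf 0) (.nd (.lf 0) (.nd (.lf 1555) (.lf 0))))) (.nd (.nd (.lf 0) (.nd (.lf 0) (.nd (.lf 18) (.lf 0)))) (.nd (.nd (.nd (.lf 2) (.lf 0)) (.lf 0)) (.nd (.nd (.lf 329) (.lf 42)) (.nd (.lf 22) (.lf 0)))))) (.nd (.nd (.nd (.lf 0) (.nd (.lf 0) (.nd (.lf 17) (.lf 0)))) (.nd (.nd (.nd (.lf 1) (.lf 0)) (.lf 0)) (.nd (.nd (.lf 200) (.lf 0)) (.nd (.lf 1620) (.lf 0))))) (.nd (.lf 0) (.nd (.nd (.nd (.lf 0) (.lf 2850)) (.lf 0)) (.nd (.nd (.lf 0) (.lf 43)) (.nd (.lf 23) (.lf 0))))))) (.nd (.nd (.nd (.nd (.nd (.lf 0) (.nd (.lf 44) (.lf 0))) (.nd (.nd (.lf 1511) (.lf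 0)) (.lf 0))) (.nd (.nd (.nd (.lf 32) (.lf 0)) (.lf 0)) (.lf 0))) (.nd (.nd (.nd (.nd (.lf 27) (.lf 0)) (.nd (.lf 2733) (.lf 0))) (.lf 0)) (.lf 0))) (.nd (.nd (.nd (.nd (.nd (.lf 25) (.lf 0)) (.lf 0)) (.nd (.nd (.lf 1704) (.lf 0)) (.lf 0))) (.nd (.nd (.nd (.lf 33) (.lf 0)) (.nd (.lf 46) (.lf 0))) (.lf 0))) (.nd (.nd (.nd (.nd (.lf 478) (.lf 0)) (.lf 0)) (.nd (.nd (.lf 2025) (.lf 0)) (.lf 0))) (.nd (.nd (.nd (.lf 1189) (.lf 0)) (.nd (.lf 47) (.lf 0))) (.nd (.nd (.lf 43) (.lf 0)) (.lf 0))))))) (.nd (.nd (.nd (.nd (.nd (.nd (.nd (.lf 5) (.lf 0)) (.lf 0)) (.lf 0)) (.nd (.nd (.lf 0) (.nd (.lf 1758) (.lf 0))) (.lf 0))) (.nd (.nd (.nd (.nd (.lf 7) (.lf 0)) (.nd (.lf 1436) (.lf 0))) (.lf 0)) (.lf 0))) (.nd (.nd (.nd (.nd (.nd (.lf 0) (.lf 2791))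 (.nd (.lf 25) (.lf 0))) (.nd (.nd (.lf 399) (.lf 46)) (.nd (.lf 33) (.lf 0)))) (.lf 0)) (.nd (.nd (.nd (.nd (.lf 0) (.lf 3049)) (.lf 0)) (.nd (.nd (.lf 0) (.lf 48)) (.lf 0))) (.nd (.nd (.nd (.lf 141) (.lf 0)) (.nd (.lf 31) (.lf 0))) (.nd (.nd (.lf 23) (.lf 0)) (.lf 0)))))) (.lf 0)))))))

end CfsgLib.KnownB.F4Mult
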