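import Cfsg.Agent.Lib.KnownB.F4Mult.StepChecks

/-!
At most two elements of the kernel of a central extension of the presented group of type F4 over two elements lie
in the derived group.
-/

set_option autoImplicit false
set_option maxRecDepth 100000

namespace CfsgLib.KnownB.F4Mult

open Cfsg.Lie CfsgLib.Chev
open scoped commutatorElement

variable {F : Type*} [Field F]

/-- the parameters are zero and one -/
def TwoEl (F : Type*) [Field F] : Prop := ∀ t : F, t = 0 ∨ t = 1

theorem two_eq {F : Type*} [Field F] (hF : TwoEl F) : (2 : F) = 0 := by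
  rcases hF (2 : F) with e | e
  · exact e
  · exact absurd (by linear_combination e : (1 : F) = 0) one_ne_zero

/-- a map of the root symbols -/
noncomputable def symMap {Γ : Type*} [Group Γ] (f : ℕ → Γ) : Fin chevF4.nroots × F → Γ := fun p => by
  classical exact if p.2 = 0 then 1 else f p.1

theorem lift_stX {Γ : Type*} [Group Γ] (f : ℕ → Γ) {r : ℕ} (hr : r < 48) (t : F) [Decidable (t = 0)] :
    FreeGroup.lift (symMap (F := F) f) (chevF4.stX r t) = if t = 0 then 1 else f r := by
  rw [ChevalleyDatum.stX, dif_pos (show r < chevF4.nroots from hr), FreeGroup.lift_apply_of]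
  simp only [symMap]

/-- a homomorphism of the presented group from images of the root elements -/
theorem exists_hom (hF : TwoEl F) {Γ : Type*} [Group Γ] (f : ℕ → Γ) (hsq : ∀ r < 48, f r * f r = 1)
    (hrel : ∀ r s, pairB r s = true → f s * f r = f r * f s * ((Wl r s).map f).prod) :
    ∃ φ : chevF4.SteinbergCover F →* Γ, ∀ r < 48, φ (X r) = f r := by
  classical
  have h2 := two_eq hF
  have hrels : ∀ y ∈ chevF4.steinbergRelsAB F, FreeGroup.lift (symMap (F := F) f) y = 1 := by
    rintro y (⟨r, t₁, t₂, hr, rfl⟩ | ⟨r, s, t, u, hr, hs, hne, hn, rfl⟩)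
    · have hr : r < 48 := hr
      simp only [map_mul, map_inv, lift_stX f hr]
      rcases hF t₁ with rfl | rfl <;> rcases hF t₂ with rfl | rfl <;>
        simp [one_add_one_eq_two, h2, hsq r hr]
    · have hr : r < 48 := hr
      have hs : s < 48 := hs
      rw [neg_eq hr] at hn
      have hp : pairB r s = true := pairB_iff.2 ⟨hr, hs, hne, by omega⟩
      obtain ⟨-, -, hW, hij⟩ := wordChk_spec hp
      have hval : ∀ t u : F, (t = 0 ∨ u = 0) →
          FreeGroup.lift (symMap (F := F) f) (chevF4.stWord (chevF4.commWord F r s t u)) = 1 := by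
        intro t u htu
        rw [ChevalleyDatum.stWord, ChevalleyDatum.commWord, commTerms_eq stdF4.good hr hs, map_list_prod]
        refine List.prod_eq_one fun g hg => ?_
        simp only [List.map_map, List.mem_map, Function.comp_apply] at hg
        obtain ⟨c, hc, rfl⟩ := hg
        obtain ⟨hi, hj⟩ := hij c hc
        have hz : ((c.2.1 : F) * (-t) ^ c.2.2.1 * u ^ c.2.2.2) = 0 := by
          rcases htu with rfl | rfl
          · rw [neg_zero, zero_pow (by omega), mul_zero, zero_mul]
          · rw [zero_pow (by omega), mul_zero]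
        rw [lift_stX f (terms_mem stdF4.good hr hs hc).1, if_pos hz]
      simp only [map_mul, map_inv, lift_stX f hr, lift_stX f hs]
      rcases hF t with rfl | rfl <;> rcases hF u with rfl | rfl
      · simp [hval 0 0 (Or.inl rfl)]
      · simp [hval 0 1 (Or.inl rfl)]
      · simp [hval 1 0 (Or.inr rfl)]
      · rw [word_val h2 (FreeGroup.lift (symMap (F := F) f)) (fun x hx => by rw [lift_stX f hx, if_pos rfl]) hp,
          mul_inv_eq_one, if_neg one_ne_zero, if_neg one_ne_zero]
        rw [List.map_congr_left (g := f) fun x hx => by rw [lift_stX f (hW x hx), if_neg one_ne_zero],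
          mul_assoc, mul_assoc, hrel r s hp]
        group
  refine ⟨PresentedGroup.toGroup hrels, fun r hr => ?_⟩
  show PresentedGroup.toGroup hrels (PresentedGroup.mk _ (chevF4.stX r (1 : F))) = f r
  rw [ChevalleyDatum.stX, dif_pos (show r < chevF4.nroots from hr)]
  exact (PresentedGroup.toGroup.of hrels).trans (by simp [symMap])

theorem closure_X (hF : TwoEl F) :
    Subgroup.closure {g : chevF4.SteinbergCover F | ∃ r < 48, g = X r} = ⊤ := by
  rw [eq_top_iff, ← PresentedGroup.closure_range_of, Subgroup.closure_le]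
  rintro _ ⟨⟨r, t⟩, rfl⟩
  have e : PresentedGroup.of (rels := chevF4.steinbergRelsAB F) (r, t) = chevF4.scGen F r t := by
    simp [ChevalleyDatum.scGen, ChevalleyDatum.stX, PresentedGroup.of]
  rw [SetLike.mem_coe, e]
  rcases hF t with rfl | rfl
  · rw [gen_zero r.2]; exact one_mem _
  · exact Subgroup.subset_closure ⟨r, r.2, rfl⟩

theorem hom_ext (hF : TwoEl F) {Γ : Type*} [Group Γ] {φ ψ : chevF4.SteinbergCover F →* Γ}
    (h : ∀ r < 48, φ (X r) = ψ (X r)) : φ = ψ :=
  MonoidHom.eq_of_eqOn_dense (closure_X hF) (by rintro _ ⟨r, hr, rfl⟩; exact h r hr)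

theorem holds_fold {Y : Type*} [Group Y] {a : ℕ → Y} {z : Subgroup.center Y} :
    ∀ (l : List ℕ) (S : ℕ), (∀ x ∈ l, dd a z x = 1) → Holds a z S →
      Holds a z (l.foldl (fun S v => S ||| Nat.shiftLeft 1 v) S)
  | [], _, _, hS => hS
  | v :: l, S, h, hS => by
    refine holds_fold l _ (fun x hx => h x (List.mem_cons_of_mem _ hx)) fun k hk => ?_
    rcases hasB_insert hk with rfl | hk
    · exact h _ (List.mem_cons_self ..)
    · exact hS k hk

theorem commutator_central {H : Type*} [Group H] {g h c d : H} (hc : ∀ v, c * v = v * c)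
    (hd : ∀ v, d * v = v * d) : ⁅g * c, h * d⁆ = ⁅g, h⁆ := by
  calc ⁅g * c, h * d⁆ = g * (c * (h * d)) * c⁻¹ * g⁻¹ * (d⁻¹ * h⁻¹) := by
        rw [commutatorElement_def]; group
    _ = g * h * (d * g⁻¹) * d⁻¹ * h⁻¹ := by rw [hc (h * d)]; group
    _ = _ := by rw [hd g⁻¹, commutatorElement_def]; group

/-- at most two elements of the kernel lie in the derived group -/
theorem ker_inf_commutator (hF : TwoEl F) {Y : Type*} [Group Y] (q : Y →* chevF4.SteinbergCover F)
    (hsurj : Function.Surjective q) (hc : q.ker ≤ Subgroup.center Y) :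
    ∃ z : Y, z * z = 1 ∧ q.ker ⊓ commutator Y ≤ Subgroup.zpowers z := by
  have h2 := two_eq hF
  choose b hb using fun r => hsurj (X r)
  obtain ⟨a, ha⟩ : ∃ a : ℕ → Y, a = fun r =>
      (b (decP r) * b (decQ r))⁻¹ * (b (decQ r) * b (decP r)) := ⟨_, rfl⟩
  have hd := dec_spec
  simp only [List.all_eq_true, List.mem_range, Bool.and_eq_true, decide_eq_true_eq, Nat.beq_eq] at hd
  have hqa : ∀ r < 48, q (a r) = X r := fun r hr => by
    obtain ⟨⟨hp, hW⟩, -⟩ := hd r hr
    rw [ha]
    simp only [map_mul, map_inv, hb]
    rw [X_rel h2 hp, hW, List.map_singleton, List.prod_singleton]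
    group
  have hev : ∀ w : List ℕ, (∀ x ∈ w, x < 48) → q (ev a w) = (w.map X).prod := fun w hw => by
    rw [ev, map_list_prod, List.map_map]
    exact congrArg List.prod (List.map_congr_left fun x hx => hqa x (hw x hx))
  have hker : ∀ k, vOK k = true → q (dv a k) = 1 := by
    intro k hk
    cases e : Nat.blt k 2304 <;> simp only [vOK, e, cond_false, cond_true] at hk <;>
      simp only [dv, e, cond_false, cond_true]
    · have : ¬ k < 2304 := fun h => by rw [← Nat.blt_eq, e] at h; exact absurd h (by simp)
      rw [Nat.blt_eq] at hk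
      rw [map_mul, hqa _ (by omega), X_sq h2 (by omega)]
    · obtain ⟨hr, hs, -, -⟩ := pairB_iff.1 hk
      rw [map_mul, map_inv, map_mul, map_mul, map_mul, hev _ (wordChk_spec hk).2.2.1, hqa _ hr, hqa _ hs,
        inv_mul_eq_one, X_rel h2 hk]
  have hcen : Central a := fun k hk => hc (hker k hk)
  obtain ⟨hb9, hbv⟩ := base_spec
  obtain ⟨z, hz⟩ : ∃ z : Subgroup.center Y, (z : Y) = dv a baseCode :=
    ⟨⟨_, hcen _ hbv⟩, rfl⟩
  have hini : Holds a z known0 := by
    rw [← ini_spec]
    refine holds_fold iniCodes 0 ?_ fun k hk => ?_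
    · intro x hx
      rw [iniCodes, List.mem_cons] at hx
      rcases hx with rfl | hx
      · have hx : dv a baseCode ∈ Subgroup.center Y := hcen _ hbv
        have he : ex baseCode = 1 := by rw [ex, hb9]; rfl
        simp only [dd, dif_pos hx, he, zpow_one]
        exact mul_inv_eq_one.2 (Subtype.ext hz.symm)
      · obtain ⟨r, hr, rfl⟩ := List.mem_map.1 hx
        rw [List.mem_range] at hr
        obtain ⟨⟨hp, hW⟩, he⟩ := hd r hr
        obtain ⟨hP, hQ, -, -⟩ := pairB_iff.1 hp
        have hcode : vOK (decP r * 48 + decQ r) = true := by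
          have e1 : (decP r * 48 + decQ r) / 48 = decP r := by omega
          have e2 : (decP r * 48 + decQ r) % 48 = decQ r := by omega
          have e3 : Nat.blt (decP r * 48 + decQ r) 2304 = true := by rw [Nat.blt_eq]; omega
          simp [vOK, e1, e2, e3, hp]
        have hx : dv a (decP r * 48 + decQ r) ∈ Subgroup.center Y := hcen _ hcode
        have he' : ex (decP r * 48 + decQ r) = 0 := by rw [ex, he]; rfl
        have hdv : dv a (decP r * 48 + decQ r) = 1 := by
          have e1 : (decP r * 48 + decQ r) / 48 = decP r := by omega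
          have e2 : (decP r * 48 + decQ r) % 48 = decQ r := by omega
          have e3 : Nat.blt (decP r * 48 + decQ r) 2304 = true := by rw [Nat.blt_eq]; omega
          have hcm : ∀ i < 48, ∀ y : Y, ((b i)⁻¹ * a i) * y = y * ((b i)⁻¹ * a i) := fun i hi y =>
            (Subgroup.mem_center_iff.1 (hc (show q ((b i)⁻¹ * a i) = 1 by
              rw [map_mul, map_inv, hb, hqa i hi, inv_mul_cancel])) y).symm
          simp only [dv, e1, e2, e3, cond_true, hW, ev, List.map_singleton, List.prod_singleton]
          rw [inv_mul_eq_one]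
          obtain ⟨c, hc1, hc2⟩ : ∃ c, (∀ y : Y, c * y = y * c) ∧ a (decP r) = b (decP r) * c :=
            ⟨_, hcm _ hP, by group⟩
          obtain ⟨d, hd1, hd2⟩ : ∃ d, (∀ y : Y, d * y = y * d) ∧ a (decQ r) = b (decQ r) * d :=
            ⟨_, hcm _ hQ, by group⟩
          have har : a r = (b (decP r) * b (decQ r))⁻¹ * (b (decQ r) * b (decP r)) := by rw [ha]
          rw [hc2, hd2, har]
          calc b (decP r) * c * (b (decQ r) * d) *
                ((b (decP r) * b (decQ r))⁻¹ * (b (decQ r) * b (decP r)))
              = c * d * (b (decP r) * b (decQ r)) *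
                ((b (decP r) * b (decQ r))⁻¹ * (b (decQ r) * b (decP r))) := by
                rw [← hc1 (b (decP r)), ← hd1 (b (decQ r))]
                congr 1
                rw [mul_assoc c, ← mul_assoc (b (decP r)) d, ← hd1 (b (decP r))]
                group
            _ = c * d * (b (decQ r) * b (decP r)) := by group
            _ = _ := by
                rw [← hd1 (b (decQ r)), ← hc1 (b (decP r)), mul_assoc d (b (decQ r)), ← mul_assoc (b (decQ r)) c,
                  ← hc1 (b (decQ r))]
                rw [show c * d = d * c from hc1 d]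
                group
        simp only [dd, dif_pos hx, he', zpow_zero, inv_one, mul_one]
        exact Subtype.ext hdv
    · simp [hasB, Nat.shiftRight_eq'] at hk
  have hfin : Holds a z known15 :=
    run_spec z hcen run14 <| run_spec z hcen run13 <| run_spec z hcen run12 <| run_spec z hcen run11 <|
    run_spec z hcen run10 <| run_spec z hcen run9 <| run_spec z hcen run8 <| run_spec z hcen run7 <|
    run_spec z hcen run6 <| run_spec z hcen run5 <| run_spec z hcen run4 <| run_spec z hcen run3 <|
    run_spec z hcen run2 <| run_spec z hcen run1 <| run_spec z hcen run0 hini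
  have hzz : z * z = 1 := res_spec z hcen res_check hfin
  refine ⟨z, by simpa using congrArg Subtype.val hzz, ?_⟩
  have hall : ∀ k, vOK k = true → dv a k ∈ Subgroup.zpowers (z : Y) := by
    intro k hk
    have hlt : k < 2352 := by
      cases e : Nat.blt k 2304 <;> simp only [vOK, e, cond_false, cond_true, Nat.blt_eq] at hk
      · exact hk
      · rw [Nat.blt_eq] at e; omega
    have hf := final_spec
    simp only [List.all_eq_true, List.mem_range, Bool.or_eq_true, Bool.not_eq_true'] at hf
    rcases hf k hlt with h | h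
    · rw [hk] at h; exact absurd h (by simp)
    · have := hfin k h
      simp only [dd, dif_pos (hcen k hk)] at this
      have := congrArg Subtype.val (mul_inv_eq_one.1 this)
      exact ⟨ex k, by simpa using this.symm⟩
  haveI hN : (Subgroup.zpowers (z : Y)).Normal := ⟨fun n hn g => by
    have : n ∈ Subgroup.center Y := Subgroup.zpowers_le.2 z.2 hn
    rwa [Subgroup.mem_center_iff.1 this g, mul_inv_cancel_right]⟩
  let m := QuotientGroup.mk' (Subgroup.zpowers (z : Y))
  have hone : ∀ k, vOK k = true → m (dv a k) = 1 := fun k hk => (QuotientGroup.eq_one_iff _).2 (hall k hk)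
  obtain ⟨s, hs⟩ := exists_hom hF (fun r => m (a r)) (fun r hr => by
      have h := hone (2304 + r) (by
        have : Nat.blt (2304 + r) 2304 = false := by rw [← Bool.not_eq_true, Nat.blt_eq]; omega
        simp only [vOK, this, cond_false, Nat.blt_eq]; omega)
      have e : Nat.blt (2304 + r) 2304 = false := by rw [← Bool.not_eq_true, Nat.blt_eq]; omega
      simpa [dv, e] using h)
    (fun r t hp => by
      obtain ⟨hr, ht, -, -⟩ := pairB_iff.1 hp
      have e3 : Nat.blt (r * 48 + t) 2304 = true := by rw [Nat.blt_eq]; omega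
      have e1 : (r * 48 + t) / 48 = r := by omega
      have e2 : (r * 48 + t) % 48 = t := by omega
      have h := hone (r * 48 + t) (by simp [vOK, e1, e2, e3, hp])
      simp only [dv, e1, e2, e3, cond_true, map_mul, map_inv, inv_mul_eq_one, ev, map_list_prod,
        List.map_map] at h
      exact h.symm)
  have hle : Subgroup.zpowers (z : Y) ≤ q.ker := Subgroup.zpowers_le.2 (by
    rw [MonoidHom.mem_ker, hz]; exact hker _ hbv)
  let q' := QuotientGroup.lift (Subgroup.zpowers (z : Y)) q hle
  have hqs : ∀ g, q' (s g) = g := fun g => by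
    have : q'.comp s = MonoidHom.id _ := hom_ext hF fun r hr => by
      rw [MonoidHom.comp_apply, hs r hr, MonoidHom.id_apply]
      exact hqa r hr
    exact DFunLike.congr_fun this g
  have hdec : ∀ y : Y ⧸ Subgroup.zpowers (z : Y), (s (q' y))⁻¹ * y ∈ Subgroup.center _ := by
    intro y
    obtain ⟨u, hu⟩ := QuotientGroup.mk'_surjective _ ((s (q' y))⁻¹ * y)
    have hk : q u = 1 := by
      have : q' ((s (q' y))⁻¹ * y) = 1 := by rw [map_mul, map_inv, hqs, inv_mul_cancel]
      rwa [← hu] at this
    rw [← hu, Subgroup.mem_center_iff]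
    intro v
    obtain ⟨v, rfl⟩ := QuotientGroup.mk'_surjective _ v
    rw [← map_mul, ← map_mul, Subgroup.mem_center_iff.1 (hc hk) v]
  have hcomm : commutator (Y ⧸ Subgroup.zpowers (z : Y)) ≤ s.range := by
    rw [commutator_def, Subgroup.commutator_le]
    intro y₁ _ y₂ _
    refine ⟨⁅q' y₁, q' y₂⁆, ?_⟩
    have k1 := Subgroup.mem_center_iff.1 (hdec y₁)
    have k2 := Subgroup.mem_center_iff.1 (hdec y₂)
    set c₁ := (s (q' y₁))⁻¹ * y₁ with hc₁
    set c₂ := (s (q' y₂))⁻¹ * y₂ with hc₂
    rw [show y₁ = s (q' y₁) * c₁ by rw [hc₁]; group, show y₂ = s (q' y₂) * c₂ by rw [hc₂]; group,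
      map_commutatorElement]
    simp only [map_mul, hqs]
    have e1 : q' c₁ = 1 := by rw [hc₁, map_mul, map_inv, hqs, inv_mul_cancel]
    have e2 : q' c₂ = 1 := by rw [hc₂, map_mul, map_inv, hqs, inv_mul_cancel]
    rw [e1, e2, map_one, mul_one, mul_one]
    exact (commutator_central (fun v => (k1 v).symm) (fun v => (k2 v).symm)).symm
  intro y hy
  rw [Subgroup.mem_inf, MonoidHom.mem_ker] at hy
  have hm : m y ∈ commutator (Y ⧸ Subgroup.zpowers (z : Y)) := by
    have := Subgroup.mem_map_of_mem m hy.2
    rw [commutator_def, Subgroup.map_commutator] at this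
    exact Subgroup.commutator_mono le_top le_top this
  obtain ⟨g, hg⟩ := hcomm hm
  have : g = 1 := by rw [← hqs g, hg]; exact hy.1
  rw [this, map_one] at hg
  exact (QuotientGroup.eq_one_iff y).1 hg.symm

end CfsgLib.KnownB.F4Mult
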